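import Cfsg.Agent.Lib.McL275.Lines

/-!
The 162 hemisystems of one class, the graph on 275 vertices built from them, and a bound on its
automorphism group.
-/

set_option autoImplicit false
set_option maxRecDepth 20000

namespace Cfsg.Agent.Lib.McL275

open Cfsg MulAction
open Cfsg.Agent.Lib.Leech.U43

/-- The point lies in the hemisystem. -/
def mem (c : Fin 162) (i : Fin 112) : Bool := (Data.fam.getD c.val 0).testBit i.val

/-- Adjacency of hemisystems. -/
def fadj (c d : Fin 162) : Bool := (Data.famAdj.getD c.val 0).testBit d.val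

/-- A generator on the hemisystems. -/
def permF (b : Fin 5) (c : Fin 162) : Fin 162 :=
  Fin.ofNat 162 ((Data.famPerms.getD b.val []).getD c.val 0)

/-- A word on the hemisystems. -/
def runF (w : List Nat) (c : Fin 162) : Fin 162 :=
  w.foldl (fun d b => permF (Fin.ofNat 5 b) d) c

theorem fam_checks :
    (∀ b c i, mem (permF b c) (permG b i) = mem c i) ∧
    (∀ b c d, fadj (permF b c) (permF b d) = fadj c d) ∧
    (∀ b, ((List.finRange 162).map fun c => (permF b c).val).Nodup) ∧
    (∀ c d, fadj c d = fadj d c) ∧ (∀ c, fadj c c = false) ∧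
    Data.fam.Nodup ∧ Data.fam.all (· < 2 ^ 112) = true ∧ Data.fam.length = 162 ∧
    ((List.finRange 162).filter fun d => fadj 0 d).length = 56 ∧
    ((List.finRange 112).filter fun i => mem 0 i).length = 56 := by
  decide +kernel

theorem mem_ext {c d : Fin 162} (h : ∀ i, mem c i = mem d i) : c = d := by
  obtain ⟨-, -, -, -, -, hnd, hlt, hlen, -⟩ := fam_checks
  refine Fin.ext ((hnd.getElem_inj_iff (hi := by rw [hlen]; exact c.isLt)
    (hj := by rw [hlen]; exact d.isLt)).1 ?_)
  refine Nat.eq_of_testBit_eq fun k => ?_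
  by_cases hk : k < 112
  · simpa [mem, List.getD_eq_getElem?_getD, List.getElem?_eq_getElem, hlen, c.isLt, d.isLt]
      using h ⟨k, hk⟩
  · have hb : ∀ m ∈ Data.fam, m.testBit k = false := fun m hm =>
      Nat.testBit_lt_two_pow (lt_of_lt_of_le (by simpa using List.all_eq_true.1 hlt m hm)
        (Nat.pow_le_pow_right (by norm_num : 0 < 2) (show 112 ≤ k by omega)))
    rw [hb _ (List.getElem_mem _), hb _ (List.getElem_mem _)]

theorem permF_injective (b : Fin 5) : Function.Injective (permF b) := fun c d h =>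
  List.inj_on_of_nodup_map (fam_checks.2.2.1 b) (List.mem_finRange _) (List.mem_finRange _)
    (congrArg Fin.val h)

/-- The induced map on hemisystems. -/
def Ext (l : P112) (π : Equiv.Perm (Fin 162)) : Prop :=
  (∀ c i, mem (π c) (l i) = mem c i) ∧ ∀ c d, fadj (π c) (π d) = fadj c d

theorem exists_ext {l : P112} (hl : l ∈ LL) : ∃ π, Ext l π := by
  induction hl using Subgroup.closure_induction with
  | mem x hx =>
    obtain ⟨b, rfl⟩ := hx
    exact ⟨Equiv.ofBijective (permF b) (Finite.injective_iff_bijective.1 (permF_injective b)),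
      fun c i => fam_checks.1 b c i, fun c d => fam_checks.2.1 b c d⟩
  | one => exact ⟨1, fun c i => rfl, fun c d => rfl⟩
  | mul x y _ _ ihx ihy =>
    obtain ⟨π, h1, h2⟩ := ihx
    obtain ⟨π', h1', h2'⟩ := ihy
    exact ⟨π * π', fun c i => (h1 _ _).trans (h1' c i), fun c d => (h2 _ _).trans (h2' c d)⟩
  | inv x _ ih =>
    obtain ⟨π, h1, h2⟩ := ih
    exact ⟨π⁻¹, fun c i => by simpa using (h1 (π⁻¹ c) (x⁻¹ i)).symm,
      fun c d => by simpa using (h2 (π⁻¹ c) (π⁻¹ d)).symm⟩

theorem ext_word (w : List Nat) :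
    ∀ c i, mem (runF w c) (runW w i) = mem c i := by
  induction w with
  | nil => exact fun c i => rfl
  | cons b w ih =>
    exact fun c i => (ih (permF (Fin.ofNat 5 b) c) (permG (Fin.ofNat 5 b) i)).trans
      (fam_checks.1 _ _ _)

theorem fam_words :
    (∀ c : Fin 162, runF (Data.famWords.getD c.val []) 0 = c) ∧
    (∀ w ∈ Data.orb56, runF w 0 = 0) ∧ (∀ w ∈ Data.orb105, runF w 0 = 0) ∧
    (∀ d : Fin 162, d ≠ 0 → fadj 0 d = true →
      ∃ w ∈ Data.orb56, runF w (Fin.ofNat 162 Data.start56) = d) ∧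
    (∀ d : Fin 162, d ≠ 0 → fadj 0 d = false →
      ∃ w ∈ Data.orb105, runF w (Fin.ofNat 162 Data.start105) = d) := by
  decide +kernel

theorem ext_eq_runF {π : Equiv.Perm (Fin 162)} {w : List Nat} (h : Ext (wordP w) π) (c : Fin 162) :
    π c = runF w c := by
  refine mem_ext fun i => ?_
  obtain ⟨j, rfl⟩ := (wordP w).surjective i
  rw [h.1, wordP_apply, ext_word]

/-- The stabiliser of the first hemisystem is transitive on the others with given adjacency. -/
theorem fam_suborbit {d e : Fin 162} (hd : d ≠ 0) (he : e ≠ 0) (h : fadj 0 d = fadj 0 e) :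
    ∃ l ∈ LL, ∃ π, Ext l π ∧ π 0 = 0 ∧ π d = e := by
  obtain ⟨-, h56, h105, c56, c105⟩ := fam_words
  obtain ⟨r, W, hW, hd', he'⟩ : ∃ (r : Fin 162) (W : List (List Nat)),
      (∀ w ∈ W, runF w 0 = 0) ∧ (∃ w ∈ W, runF w r = d) ∧ ∃ w ∈ W, runF w r = e := by
    cases hv : fadj 0 d
    · exact ⟨_, _, h105, c105 d hd hv, c105 e he (h ▸ hv)⟩
    · exact ⟨_, _, h56, c56 d hd hv, c56 e he (h ▸ hv)⟩
  obtain ⟨u, hu, ud⟩ := hd'
  obtain ⟨v, hv, ve⟩ := he'
  obtain ⟨π, hπ⟩ := exists_ext (wordP_mem u)
  obtain ⟨π', hπ'⟩ := exists_ext (wordP_mem v)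
  refine ⟨wordP v * (wordP u)⁻¹, mul_mem (wordP_mem v) (inv_mem (wordP_mem u)), π' * π⁻¹,
    ⟨fun c i => ?_, fun c c' => ?_⟩, ?_, ?_⟩
  · simpa using (hπ'.1 (π⁻¹ c) ((wordP u)⁻¹ i)).trans (by simpa using (hπ.1 (π⁻¹ c) ((wordP u)⁻¹ i)).symm)
  · simpa using (hπ'.2 (π⁻¹ c) (π⁻¹ c')).trans (by simpa using (hπ.2 (π⁻¹ c) (π⁻¹ c')).symm)
  · rw [Equiv.Perm.mul_apply, Equiv.Perm.inv_eq_iff_eq.2
      ((ext_eq_runF hπ 0).trans (hW u hu)).symm, ext_eq_runF hπ', hW v hv]
  · rw [Equiv.Perm.mul_apply, Equiv.Perm.inv_eq_iff_eq.2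
      ((ext_eq_runF hπ r).trans ud).symm, ext_eq_runF hπ', ve]

/-- The 275 vertices. -/
abbrev V275 := Option (Fin 112 ⊕ Fin 162)

/-- Adjacency on the 275 vertices. -/
def adjV : V275 → V275 → Bool
  | none, none => false
  | none, some (.inl _) => true
  | none, some (.inr _) => false
  | some (.inl _), none => true
  | some (.inr _), none => false
  | some (.inl i), some (.inl j) => adjB i j
  | some (.inl i), some (.inr c) => mem c i
  | some (.inr c), some (.inl i) => mem c i
  | some (.inr c), some (.inr d) => fadj c d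

/-! ### The automorphism group of the collinearity graph -/

/-- Automorphisms of the collinearity graph. -/
def lineAut : Subgroup P112 where
  carrier := {f | ∀ i j, adjB (f i) (f j) = adjB i j}
  one_mem' := fun _ _ => rfl
  mul_mem' := fun {f g} hf hg i j => (hf (g i) (g j)).trans (hg i j)
  inv_mem' := fun {f} hf i j => by simpa using (hf (f⁻¹ i) (f⁻¹ j)).symm

/-- The base point of given index. -/
def bpt (k : Nat) : Fin 112 := Fin.ofNat 112 (Data.rigidBase.getD k 0)

/-- The candidates for the image of a point, given images of base points. -/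
def candMask : List (Fin 112) → List Nat → Fin 112 → Nat
  | [], _, _ => 2 ^ 112 - 1
  | b :: bs, ims, x =>
    (if b = x then 1 <<< ims.headD 0
      else if adjB b x then Data.nb.getD (ims.headD 0) 0
      else (2 ^ 112 - 1) ^^^ Data.nb.getD (ims.headD 0) 0 ^^^ 1 <<< ims.headD 0) &&&
      candMask bs ims.tail x

/-- The completions of a partial image list. -/
def grow (todo : List (Fin 112)) (done : List (Fin 112)) (ims : List Nat) : List (List Nat) :=
  match todo with
  | [] => [ims]
  | x :: rest =>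
    ((List.range 112).filter fun y => (candMask done ims x).testBit y).flatMap
      fun y => grow rest (done ++ [x]) (ims ++ [y])

/-- The base. -/
def baseList : List (Fin 112) := Data.rigidBase.map fun k => Fin.ofNat 112 k

theorem rigid_checks :
    (grow (baseList.drop 4) (baseList.take 4) (Data.rigidBase.take 4)).length ≤ 32 ∧
    (∀ x : Fin 112, candMask baseList Data.rigidBase x = 1 <<< x.val) ∧
    baseList.take 4 = [bpt 0, bpt 1, bpt 2, bpt 3] ∧
    baseList.map Fin.val = Data.rigidBase ∧
    ((List.finRange 112).filter fun j => j != bpt 0 && !adjB (bpt 0) j).length = 81 ∧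
    ((List.finRange 112).filter fun j => adjB (bpt 0) j && adjB (bpt 1) j).length = 10 ∧
    adjB (bpt 0) (bpt 1) = false ∧ bpt 1 ≠ bpt 0 ∧
    adjB (bpt 0) (bpt 2) = true ∧ adjB (bpt 1) (bpt 2) = true ∧
    adjB (bpt 0) (bpt 3) = true ∧ adjB (bpt 1) (bpt 3) = true ∧ bpt 3 ≠ bpt 2 := by
  decide +kernel

theorem testBit_candMask {f : P112} (hf : f ∈ lineAut) (x : Fin 112) :
    ∀ bs : List (Fin 112), (candMask bs (bs.map fun b => (f b).val) x).testBit (f x).val = true
  | [] => by rw [candMask, Nat.testBit_two_pow_sub_one]; simp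
  | b :: bs => by
    simp only [candMask, List.map_cons, List.headD_cons, List.tail_cons, Nat.testBit_and,
      Bool.and_eq_true]
    refine ⟨?_, testBit_candMask hf x bs⟩
    by_cases hbx : b = x
    · rw [if_pos hbx, hbx, Nat.one_shiftLeft, Nat.testBit_two_pow_self]
    rw [if_neg hbx]
    have ha : (Data.nb.getD (f b).val 0).testBit (f x).val = adjB b x := hf b x
    cases hv : adjB b x
    · rw [if_neg (by simp), Nat.testBit_xor, Nat.testBit_xor, Nat.testBit_two_pow_sub_one, ha, hv,
        Nat.one_shiftLeft, Nat.testBit_two_pow]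
      have hne : (f b).val ≠ (f x).val := fun e => hbx (f.injective (Fin.ext e))
      simp [hne]
    · rw [if_pos (by simp), ha, hv]

theorem mem_grow {f : P112} (hf : f ∈ lineAut) :
    ∀ (todo done : List (Fin 112)),
      (done ++ todo).map (fun b => (f b).val) ∈ grow todo done (done.map fun b => (f b).val)
  | [], done => by simp [grow]
  | x :: rest, done => by
    simp only [grow, List.mem_flatMap, List.mem_filter, List.mem_range]
    refine ⟨(f x).val, ⟨(f x).isLt, testBit_candMask hf x done⟩, ?_⟩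
    have := mem_grow hf rest (done ++ [x])
    simpa using this

/-- Automorphisms fixing four points. -/
def fix4 : Subgroup P112 :=
  lineAut ⊓ stabilizer P112 (bpt 0) ⊓ stabilizer P112 (bpt 1) ⊓ stabilizer P112 (bpt 2) ⊓
    stabilizer P112 (bpt 3)

theorem card_fix4_le : Nat.card fix4 ≤ 32 := by
  obtain ⟨hlen, hdet, h4, hbl, -⟩ := rigid_checks
  let L := grow (baseList.drop 4) (baseList.take 4) (Data.rigidBase.take 4)
  have hmem : ∀ f : fix4, baseList.map (fun b => (f.1 b).val) ∈ L := by
    rintro ⟨f, ⟨⟨⟨hf, h0⟩, h1⟩, h2⟩, h3⟩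
    have := mem_grow hf (baseList.drop 4) (baseList.take 4)
    rw [List.take_append_drop] at this
    have e : (baseList.take 4).map (fun b => (f b).val) = Data.rigidBase.take 4 := by
      rw [← hbl, ← List.map_take, h4]
      simp only [List.map_cons, List.map_nil]
      rw [show f (bpt 0) = _ from h0, show f (bpt 1) = _ from h1, show f (bpt 2) = _ from h2,
        show f (bpt 3) = _ from h3]
    rwa [e] at this
  let g : fix4 → {l // l ∈ L.toFinset} := fun f => ⟨_, List.mem_toFinset.2 (hmem f)⟩
  have hg : Function.Injective g := by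
    rintro ⟨f, hf⟩ ⟨f', hf'⟩ h
    have h' : baseList.map (fun b => (f b).val) = baseList.map (fun b => (f' b).val) :=
      congrArg Subtype.val h
    refine Subtype.ext (Equiv.ext fun x => ?_)
    have hq : f'⁻¹ * f ∈ lineAut := mul_mem (inv_mem hf'.1.1.1.1) hf.1.1.1.1
    have := testBit_candMask hq x baseList
    rw [show baseList.map (fun b => ((f'⁻¹ * f) b).val) = Data.rigidBase from ?_, hdet,
      Nat.one_shiftLeft, Nat.testBit_two_pow, decide_eq_true_eq] at this
    · rw [Equiv.Perm.mul_apply] at this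
      exact ((Equiv.Perm.inv_eq_iff_eq).1 (Fin.ext this.symm))
    · rw [← hbl]
      refine List.map_congr_left fun b hb => ?_
      have e := List.map_inj_left.1 h' b hb
      rw [Equiv.Perm.mul_apply, Fin.ext e]
      simp
  refine (Nat.card_le_card_of_injective g hg).trans ?_
  rw [Nat.card_eq_fintype_card, Fintype.card_coe]
  exact (List.toFinset_card_le _).trans hlen

theorem card_le_orbit_mul (H : Subgroup P112) (x : Fin 112) (n : ℕ) (s : Finset (Fin 112))
    (hs : s.card ≤ n) (h : ∀ f ∈ H, f x ∈ s) :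
    Nat.card H ≤ n * Nat.card ↥(H ⊓ stabilizer P112 x) := by
  classical
  have e := Nat.card_congr (orbitProdStabilizerEquivGroup H x)
  rw [Nat.card_prod] at e
  rw [← e]
  refine Nat.mul_le_mul ?_ (le_of_eq ?_)
  · refine le_trans ?_ hs
    rw [Nat.card_coe_set_eq, ← Set.ncard_coe_finset]
    exact Set.ncard_le_ncard (by rintro _ ⟨f, rfl⟩; exact h f.1 f.2) (Finset.finite_toSet _)
  · exact Nat.card_congr
      { toFun := fun f => ⟨f.1.1, f.1.2, f.2⟩
        invFun := fun f => ⟨⟨f.1, f.2.1⟩, f.2.2⟩
        left_inv := fun _ => rfl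
        right_inv := fun _ => rfl }

theorem card_lineAut_le : Nat.card lineAut ≤ 8 * 3265920 := by
  classical
  obtain ⟨-, -, -, -, h81, h10, a01, n01, a02, a12, a03, a13, n23⟩ := rigid_checks
  have lcard : ∀ p : Fin 112 → Bool, (Finset.univ.filter fun i => p i = true).card ≤
      ((List.finRange 112).filter p).length := by
    intro p
    refine le_trans (le_of_eq (congrArg Finset.card (show _ =
      ((List.finRange 112).filter p).toFinset from ?_))) (List.toFinset_card_le _)
    ext i; simp
  have s0 := card_le_orbit_mul lineAut (bpt 0) 112 Finset.univ (by simp) fun f _ => Finset.mem_univ _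
  have s1 := card_le_orbit_mul (lineAut ⊓ stabilizer P112 (bpt 0)) (bpt 1) 81
    (Finset.univ.filter fun j => (j != bpt 0 && !adjB (bpt 0) j) = true) ((lcard _).trans h81.le)
    (by
      rintro f ⟨hf, h0⟩
      have h0 : f (bpt 0) = bpt 0 := h0
      have e := hf (bpt 0) (bpt 1)
      rw [h0] at e
      simp only [Finset.mem_filter, Finset.mem_univ, true_and, Bool.and_eq_true, bne_iff_ne,
        Bool.not_eq_true', e, a01, and_true]
      exact fun h => n01 (f.injective (h.trans h0.symm)))
  have s2 := card_le_orbit_mul (lineAut ⊓ stabilizer P112 (bpt 0) ⊓ stabilizer P112 (bpt 1))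
    (bpt 2) 10 (Finset.univ.filter fun j => (adjB (bpt 0) j && adjB (bpt 1) j) = true)
    ((lcard _).trans h10.le) (by
      rintro f ⟨⟨hf, h0⟩, h1⟩
      have e := hf (bpt 0) (bpt 2)
      have e' := hf (bpt 1) (bpt 2)
      rw [show f (bpt 0) = bpt 0 from h0] at e
      rw [show f (bpt 1) = bpt 1 from h1] at e'
      simp [e, e', a02, a12])
  have s3 := card_le_orbit_mul
    (lineAut ⊓ stabilizer P112 (bpt 0) ⊓ stabilizer P112 (bpt 1) ⊓ stabilizer P112 (bpt 2))
    (bpt 3) 9 ((Finset.univ.filter fun j => (adjB (bpt 0) j && adjB (bpt 1) j) = true).erase (bpt 2))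
    (by
      rw [Finset.card_erase_of_mem (by simp [a02, a12])]
      have := (lcard fun j => adjB (bpt 0) j && adjB (bpt 1) j).trans h10.le
      omega) (by
      rintro f ⟨⟨⟨hf, h0⟩, h1⟩, h2⟩
      have e := hf (bpt 0) (bpt 3)
      have e' := hf (bpt 1) (bpt 3)
      rw [show f (bpt 0) = bpt 0 from h0] at e
      rw [show f (bpt 1) = bpt 1 from h1] at e'
      simp only [Finset.mem_erase, Finset.mem_filter, Finset.mem_univ, true_and, e, e', a03, a13,
        Bool.and_self, and_true]
      exact fun h => n23 (f.injective (h.trans (show f (bpt 2) = bpt 2 from h2).symm)))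
  have s4 : Nat.card ↥(lineAut ⊓ stabilizer P112 (bpt 0) ⊓ stabilizer P112 (bpt 1) ⊓
      stabilizer P112 (bpt 2) ⊓ stabilizer P112 (bpt 3)) ≤ 32 := card_fix4_le
  omega

end Cfsg.Agent.Lib.McL275
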