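import Cfsg.Agent.Lib.McL275.Local
import Cfsg.Agent.Lib.McL275.Graph
import Mathlib.GroupTheory.GroupAction.Quotient

/-!
A transitive group on 275 points whose point stabiliser is `U₄(3)` with suborbits 1, 112, 162
preserves the graph built from the lines and hemisystems, and its stabiliser is the line group.
-/

set_option autoImplicit false
set_option maxRecDepth 20000

namespace Cfsg.Agent.Lib.McL275

open Cfsg Finset MulAction
open scoped Pointwise
open Cfsg.Agent.Lib.Leech.U43

variable {G V : Type*} [Group G] [MulAction G V] [Fintype V]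

/-- The orbital relation of the pair `(a, b)`. -/
def rel (G : Type*) {V : Type*} [Group G] [MulAction G V] (a b x y : V) : Prop :=
  ∃ g : G, g • a = x ∧ g • b = y

theorem rel_smul {a b x y : V} (g : G) : rel G a b (g • x) (g • y) ↔ rel G a b x y :=
  ⟨fun ⟨h, h1, h2⟩ => ⟨g⁻¹ * h, by rw [mul_smul, h1, inv_smul_smul], by rw [mul_smul, h2, inv_smul_smul]⟩,
    fun ⟨h, h1, h2⟩ => ⟨g * h, by rw [mul_smul, h1], by rw [mul_smul, h2]⟩⟩

omit [Fintype V] in
theorem rel_base {a b y : V} : rel G a b a y ↔ y ∈ orbit (stabilizer G a) b :=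
  ⟨fun ⟨g, h1, h2⟩ => ⟨⟨g, h1⟩, h2⟩, fun ⟨g, hg⟩ => ⟨g.1, g.2, hg⟩⟩

/-- What is known about the action. -/
structure Setup (G V : Type*) [Group G] [MulAction G V] [Fintype V] where
  /-- The base point. -/
  a : V
  /-- A point of the small suborbit. -/
  b : V
  /-- A point of the large suborbit. -/
  c : V
  /-- The stabiliser is the group on the lines. -/
  φ : stabilizer G a ≃* LL
  trans : IsPretransitive G V
  card : Fintype.card V = 275
  hb : (orbit (stabilizer G a) b).ncard = 112
  hc : (orbit (stabilizer G a) c).ncard = 162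

namespace Setup

variable (S : Setup G V)

/-- Adjacency. -/
def Adj (x y : V) : Prop := rel G S.a S.b x y

theorem orbit_self : orbit (stabilizer G S.a) S.a = {S.a} := by
  ext z
  exact ⟨fun ⟨g, hg⟩ => hg ▸ g.2, fun hz => (Set.mem_singleton_iff.1 hz).symm ▸ mem_orbit_self _⟩

theorem not_mem_orbit {d : V} (hd : (orbit (stabilizer G S.a) d).ncard ≠ 1) :
    S.a ∉ orbit (stabilizer G S.a) d := fun h =>
  hd (by rw [← orbit_eq_iff.2 h, S.orbit_self, Set.ncard_singleton])

theorem disjoint_orbits :
    Disjoint (orbit (stabilizer G S.a) S.b) (orbit (stabilizer G S.a) S.c) := by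
  rw [Set.disjoint_left]
  intro z h1 h2
  have hb := S.hb
  have hc := S.hc
  rw [← orbit_eq_iff.2 h1] at hb
  rw [← orbit_eq_iff.2 h2] at hc
  omega

theorem cover (y : V) :
    y = S.a ∨ y ∈ orbit (stabilizer G S.a) S.b ∨ y ∈ orbit (stabilizer G S.a) S.c := by
  classical
  have hu : insert S.a (orbit (stabilizer G S.a) S.b ∪ orbit (stabilizer G S.a) S.c) = Set.univ := by
    refine Set.eq_of_subset_of_ncard_le (Set.subset_univ _) ?_ Set.finite_univ
    rw [Set.ncard_insert_of_notMem (fun h => h.elim
        (S.not_mem_orbit (by rw [S.hb]; norm_num)) (S.not_mem_orbit (by rw [S.hc]; norm_num))),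
      Set.ncard_union_eq S.disjoint_orbits, Set.ncard_univ, Nat.card_eq_fintype_card, S.card, S.hb,
      S.hc]
  have := hu.symm ▸ Set.mem_univ y
  simpa using this

theorem adj_smul (g : G) {x y : V} : S.Adj (g • x) (g • y) ↔ S.Adj x y := rel_smul g

theorem adj_base {y : V} : S.Adj S.a y ↔ y ∈ orbit (stabilizer G S.a) S.b := rel_base

theorem adj_ne {x y : V} (h : S.Adj x y) : x ≠ y := by
  rintro rfl
  obtain ⟨g, h1, h2⟩ := h
  have e : S.a = S.b := MulAction.injective g (h1.trans h2.symm)
  exact S.not_mem_orbit (d := S.b) (by rw [S.hb]; norm_num)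
    (e ▸ mem_orbit_self (M := stabilizer G S.a) S.b)

theorem adj_out (x : V) : {y | S.Adj x y}.ncard = 112 := by
  haveI := S.trans
  obtain ⟨g, rfl⟩ := exists_smul_eq G S.a x
  have h : {y | S.Adj (g • S.a) y} = (g • ·) '' orbit (stabilizer G S.a) S.b := by
    ext y
    constructor
    · intro hy
      refine ⟨g⁻¹ • y, ?_, smul_inv_smul g y⟩
      rw [← adj_base, ← S.adj_smul g, smul_inv_smul]
      exact hy
    · rintro ⟨z, hz, rfl⟩
      exact (S.adj_smul g).2 (S.adj_base.2 hz)
  rw [h, Set.ncard_image_of_injective _ (MulAction.injective g), S.hb]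

theorem adj_symm {x y : V} (h : S.Adj x y) : S.Adj y x := by
  classical
  haveI := S.trans
  have key : S.Adj S.b S.a := by
    have inN : ∀ z, {w | S.Adj w z}.ncard = {w | S.Adj w S.a}.ncard := by
      intro z
      obtain ⟨g, rfl⟩ := exists_smul_eq G S.a z
      have h : {w | S.Adj w (g • S.a)} = (g • ·) '' {w | S.Adj w S.a} := by
        ext w
        constructor
        · intro hw
          refine ⟨g⁻¹ • w, ?_, smul_inv_smul g w⟩
          show S.Adj _ _
          rw [← S.adj_smul g, smul_inv_smul]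
          exact hw
        · rintro ⟨v, hv, rfl⟩
          exact (S.adj_smul g).2 hv
      rw [h, Set.ncard_image_of_injective _ (MulAction.injective g)]
    have hnc : ∀ p : V → Prop, {w | p w}.ncard = (univ.filter p).card := fun p => by
      rw [← Set.ncard_coe_finset]; congr 1; ext; simp
    have hsum : {w | S.Adj w S.a}.ncard = 112 := by
      have h1 := sum_card_bipartiteAbove_eq_sum_card_bipartiteBelow (s := (univ : Finset V))
        (t := (univ : Finset V)) S.Adj
      simp only [bipartiteAbove, bipartiteBelow, ← hnc, S.adj_out, inN, sum_const,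
        card_univ, S.card, smul_eq_mul] at h1
      omega
    by_contra hba
    have h2 : ∀ z ∈ orbit (stabilizer G S.a) S.b, ¬ S.Adj z S.a := by
      rintro z ⟨g, rfl⟩ hz
      have : S.Adj (g.1 • S.b) (g.1 • S.a) := by rw [show g.1 • S.a = S.a from g.2]; exact hz
      exact hba ((S.adj_smul g.1).1 this)
    obtain ⟨w, hw⟩ := Set.nonempty_of_ncard_ne_zero (s := {w | S.Adj w S.a}) (by omega)
    have hw' : S.Adj w S.a := hw
    have hwc : w ∈ orbit (stabilizer G S.a) S.c :=
      ((S.cover w).resolve_left (S.adj_ne hw')).resolve_left (fun e => h2 w e hw')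
    have hsub : orbit (stabilizer G S.a) S.c ⊆ {v | S.Adj v S.a} := by
      rw [← orbit_eq_iff.2 hwc]
      rintro v ⟨g, rfl⟩
      have := (S.adj_smul g.1).2 hw'
      rwa [show g.1 • S.a = S.a from g.2] at this
    have := Set.ncard_le_ncard hsub (Set.toFinite _)
    rw [S.hc] at this
    omega
  obtain ⟨g, rfl, rfl⟩ := h
  exact (S.adj_smul g).2 key

/-- The number of common neighbours. -/
noncomputable def common (x y : V) : ℕ := {z | S.Adj x z ∧ S.Adj y z}.ncard

theorem common_smul (g : G) (x y : V) : S.common (g • x) (g • y) = S.common x y := by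
  have h : {z | S.Adj (g • x) z ∧ S.Adj (g • y) z} = (g • ·) '' {z | S.Adj x z ∧ S.Adj y z} := by
    ext z
    constructor
    · intro hz
      refine ⟨g⁻¹ • z, ⟨?_, ?_⟩, smul_inv_smul g z⟩
      · rw [← S.adj_smul g, smul_inv_smul]; exact hz.1
      · rw [← S.adj_smul g, smul_inv_smul]; exact hz.2
    · rintro ⟨w, hw, rfl⟩
      exact ⟨(S.adj_smul g).2 hw.1, (S.adj_smul g).2 hw.2⟩
  rw [common, h, Set.ncard_image_of_injective _ (MulAction.injective g), common]

theorem common_adj {x y : V} (h : S.Adj x y) : S.common x y = S.common S.a S.b := by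
  obtain ⟨g, rfl, rfl⟩ := h
  exact S.common_smul g _ _

theorem common_nonadj {x y : V} (hne : x ≠ y) (h : ¬ S.Adj x y) :
    S.common x y = S.common S.a S.c := by
  haveI := S.trans
  obtain ⟨g, rfl⟩ := exists_smul_eq G S.a x
  obtain ⟨z, rfl⟩ : ∃ u, g • u = y := ⟨g⁻¹ • y, smul_inv_smul g y⟩
  rcases S.cover z with rfl | hz | ⟨k, rfl⟩
  · exact absurd rfl hne
  · exact absurd ((S.adj_smul g).2 (S.adj_base.2 hz)) h
  · rw [S.common_smul]
    calc S.common S.a (k.1 • S.c) = S.common (k.1 • S.a) (k.1 • S.c) := by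
          rw [show k.1 • S.a = S.a from k.2]
      _ = _ := S.common_smul _ _ _

/-- The points of the large suborbit. -/
noncomputable def outer : Finset V := by
  classical exact univ.filter fun z => z ∈ orbit (stabilizer G S.a) S.c

theorem mem_outer {z : V} : z ∈ S.outer ↔ z ∈ orbit (stabilizer G S.a) S.c := by simp [outer]

theorem card_outer : S.outer.card = 162 := by
  rw [← S.hc, ← Set.ncard_coe_finset]
  exact congrArg Set.ncard (Set.ext fun z => S.mem_outer)

theorem outer_not_adj {z : V} (hz : z ∈ S.outer) : ¬ S.Adj S.a z ∧ z ≠ S.a := by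
  refine ⟨fun h => Set.disjoint_left.1 S.disjoint_orbits (S.adj_base.1 h) (S.mem_outer.1 hz),
    fun h => S.not_mem_orbit (d := S.c) (by rw [S.hc]; norm_num) (h ▸ S.mem_outer.1 hz)⟩

theorem stab_smul (h : stabilizer G S.a) : h • S.a = S.a := h.2

theorem smul_outer {z : V} (h : stabilizer G S.a) (hz : z ∈ S.outer) : h • z ∈ S.outer := by
  rw [S.mem_outer] at hz ⊢
  exact orbit_eq_iff.2 hz ▸ mem_orbit _ h

theorem card_stab : Nat.card (stabilizer G S.a) = 3265920 :=
  (Nat.card_congr S.φ.toEquiv).trans card_LL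

end Setup

/-- A coordinate map on the lines, equivariant for an identification of the stabiliser. -/
structure LineMap (S : Setup G V) where
  /-- The points. -/
  f : Fin 112 → V
  /-- The identification. -/
  e : stabilizer G S.a ≃* LL
  inj : Function.Injective f
  range : Set.range f = orbit (stabilizer G S.a) S.b
  equiv : ∀ (l : LL) (i : Fin 112), f (l • i) = e.symm l • f i

theorem exists_lineMap (S : Setup G V) : Nonempty (LineMap S) := by
  classical
  let M : Subgroup LL := (stabilizer (stabilizer G S.a) S.b).map S.φ.toMonoidHom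
  have hM : Nat.card M = 29160 := by
    rw [← Nat.card_congr (Subgroup.equivMapOfInjective _ _ (MulEquiv.injective S.φ)).toEquiv]
    have h := Nat.card_congr (orbitProdStabilizerEquivGroup (stabilizer G S.a) S.b)
    rw [Nat.card_prod, Nat.card_coe_set_eq, S.hb, S.card_stab] at h
    omega
  obtain ⟨i0, hi0⟩ := eq_lineStab M hM
  have hl : ∀ i, ∃ l : LL, l • i0 = i := exists_smul_eq LL i0
  let f : Fin 112 → V := fun i => S.φ.symm (hl i).choose • S.b
  have hf : ∀ l : LL, f (l • i0) = S.φ.symm l • S.b := by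
    intro l
    have h : l⁻¹ * (hl (l • i0)).choose ∈ M := by
      rw [hi0, mem_stabilizer_iff, mul_smul, (hl (l • i0)).choose_spec, inv_smul_smul]
    obtain ⟨m, hm, he⟩ := Subgroup.mem_map.1 h
    show S.φ.symm (hl (l • i0)).choose • S.b = _
    have : S.φ.symm (hl (l • i0)).choose = S.φ.symm l * m := by
      apply S.φ.injective
      rw [map_mul, S.φ.apply_symm_apply, S.φ.apply_symm_apply]
      rw [show S.φ m = _ from he, mul_inv_cancel_left]
    rw [this, mul_smul, show m • S.b = S.b from hm]
  refine ⟨⟨f, S.φ, ?_, ?_, ?_⟩⟩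
  · intro i j h
    obtain ⟨l, rfl⟩ := hl i
    obtain ⟨l', rfl⟩ := hl j
    rw [hf, hf] at h
    have hm : S.φ ((S.φ.symm l')⁻¹ * S.φ.symm l) ∈ M :=
      Subgroup.mem_map_of_mem _ (by rw [mem_stabilizer_iff, mul_smul, h, inv_smul_smul])
    rw [map_mul, map_inv, S.φ.apply_symm_apply, S.φ.apply_symm_apply, hi0, mem_stabilizer_iff,
      mul_smul, inv_smul_eq_iff] at hm
    exact hm
  · refine Set.ext fun z => ⟨?_, ?_⟩
    · rintro ⟨i, rfl⟩
      exact mem_orbit _ _
    · rintro ⟨h, rfl⟩
      exact ⟨S.φ h • i0, by rw [hf, S.φ.symm_apply_apply]⟩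
  · intro l i
    obtain ⟨l', rfl⟩ := hl i
    rw [← mul_smul, hf, hf, map_mul, mul_smul]

namespace LineMap

variable {S : Setup G V} (L : LineMap S)

theorem adj_a (i : Fin 112) : S.Adj S.a (L.f i) :=
  S.adj_base.2 (L.range ▸ Set.mem_range_self i)

theorem adj_inv (l : LL) {i j : Fin 112} : S.Adj (L.f (l • i)) (L.f (l • j)) ↔ S.Adj (L.f i) (L.f j) := by
  rw [L.equiv, L.equiv]
  exact S.adj_smul (L.e.symm l).1

theorem adj_smul_outer (l : LL) {i : Fin 112} {z : V} :
    S.Adj (L.f (l • i)) (L.e.symm l • z) ↔ S.Adj (L.f i) z := by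
  rw [L.equiv]
  exact S.adj_smul (L.e.symm l).1

/-- Adjacency on the coordinates. -/
noncomputable def T (i j : Fin 112) : Bool := by classical exact decide (S.Adj (L.f i) (L.f j))

theorem T_iff {i j : Fin 112} : L.T i j = true ↔ S.Adj (L.f i) (L.f j) := by simp [T]

theorem T_smul (l : LL) (i j : Fin 112) : L.T (l • i) (l • j) = L.T i j := by
  rw [Bool.eq_iff_iff, L.T_iff, L.T_iff, L.adj_inv]

theorem T_cases : ∃ p q : Bool, ∀ i j : Fin 112, j ≠ i →
    L.T i j = if adjB i j then p else q := by
  refine ⟨L.T 0 (Fin.ofNat 112 Data.start30), L.T 0 5, fun i j hij => ?_⟩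
  obtain ⟨m, hm⟩ := exists_smul_eq LL (0 : Fin 112) i
  have hst : adjB 0 (Fin.ofNat 112 Data.start30) = true ∧ adjB 0 5 = false ∧
      (Fin.ofNat 112 Data.start30) ≠ (0 : Fin 112) ∧ (5 : Fin 112) ≠ 0 := by decide +kernel
  have hj0 : m⁻¹ • j ≠ 0 := fun e => hij (by rw [← hm, ← e, smul_inv_smul])
  have hT : L.T i j = L.T 0 (m⁻¹ • j) := by
    conv_lhs => rw [← hm, ← smul_inv_smul m j]
    rw [L.T_smul]
  have hA : adjB i j = adjB 0 (m⁻¹ • j) := by
    conv_lhs => rw [← hm, ← smul_inv_smul m j]
    exact adjB_smul m.2 _ _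
  cases hv : adjB i j
  · obtain ⟨l, hl, l0, lj⟩ := suborbit_transitive hj0 hst.2.2.2 (by rw [← hA, hv, hst.2.1])
    rw [hT, ← L.T_smul ⟨l, hl⟩]
    show L.T (l 0) (l (m⁻¹ • j)) = _
    rw [l0, lj]; simp
  · obtain ⟨l, hl, l0, lj⟩ := suborbit_transitive hj0 hst.2.2.1 (by rw [← hA, hv, hst.1])
    rw [hT, ← L.T_smul ⟨l, hl⟩]
    show L.T (l 0) (l (m⁻¹ • j)) = _
    rw [l0, lj]; simp

theorem common_split (x : V) :
    S.common S.a x = {i | S.Adj x (L.f i)}.ncard := by
  rw [Setup.common, ← Set.ncard_image_of_injective _ L.inj]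
  refine congrArg Set.ncard (Set.ext fun z => ⟨fun hz => ?_, ?_⟩)
  · obtain ⟨i, rfl⟩ := L.range.ge (S.adj_base.1 hz.1)
    exact ⟨i, hz.2, rfl⟩
  · rintro ⟨i, hi, rfl⟩
    exact ⟨L.adj_a i, hi⟩

/-- The neighbours in the large suborbit. -/
noncomputable def outN (i : Fin 112) : Finset V := by
  classical exact S.outer.filter fun z => S.Adj (L.f i) z

theorem mem_outN {i : Fin 112} {z : V} : z ∈ L.outN i ↔ z ∈ S.outer ∧ S.Adj (L.f i) z := by
  simp [outN]

theorem outer_split (p : V → Prop) [DecidablePred p] (h : ∀ z, p z → z ≠ S.a) :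
    {z | p z}.ncard = (univ.filter fun i => p (L.f i)).card + (S.outer.filter p).card := by
  classical
  rw [← card_image_of_injective _ L.inj, ← card_union_of_disjoint]
  · rw [← Set.ncard_coe_finset]
    refine congrArg Set.ncard (Set.ext fun z => ?_)
    simp only [coe_union, coe_image, Set.mem_union, Set.mem_image, mem_coe, mem_filter, mem_univ,
      true_and, Set.mem_setOf_eq]
    constructor
    · intro hz
      rcases (S.cover z).resolve_left (h z hz) with ho | ho
      · obtain ⟨i, rfl⟩ := L.range.ge ho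
        exact Or.inl ⟨i, hz, rfl⟩
      · exact Or.inr ⟨S.mem_outer.2 ho, hz⟩
    · rintro (⟨i, hi, rfl⟩ | ⟨-, hz⟩)
      · exact hi
      · exact hz
  · rw [Finset.disjoint_left]
    intro z hz hz'
    obtain ⟨i, -, rfl⟩ := mem_image.1 hz
    exact (S.outer_not_adj (mem_filter.1 hz').1).1 (L.adj_a i)

theorem card_outN (i : Fin 112) :
    (L.outN i).card + (univ.filter fun j => L.T i j = true).card + 1 = 112 := by
  classical
  have h := L.outer_split (fun z => S.Adj (L.f i) z ∧ z ≠ S.a) fun z hz => hz.2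
  have h1 : {z | S.Adj (L.f i) z ∧ z ≠ S.a}.ncard + 1 = 112 := by
    rw [← Set.ncard_insert_of_notMem (a := S.a) (fun hh => hh.2 rfl)]
    refine Eq.trans (congrArg Set.ncard (Set.ext fun z => ?_)) (S.adj_out (L.f i))
    simp only [Set.mem_insert_iff, Set.mem_setOf_eq]
    constructor
    · rintro (rfl | hz)
      · exact S.adj_symm (L.adj_a i)
      · exact hz.1
    · intro hz
      by_cases e : z = S.a
      · exact Or.inl e
      · exact Or.inr ⟨hz, e⟩
  rw [h] at h1
  have e1 : (univ.filter fun j => S.Adj (L.f i) (L.f j) ∧ L.f j ≠ S.a) =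
      univ.filter fun j => L.T i j = true := by
    refine filter_congr fun j _ => ?_
    rw [L.T_iff]
    exact ⟨fun hh => hh.1, fun hh => ⟨hh, (S.adj_ne (L.adj_a j)).symm⟩⟩
  have e2 : (S.outer.filter fun z => S.Adj (L.f i) z ∧ z ≠ S.a) = L.outN i := by
    ext z
    simp only [mem_filter, L.mem_outN]
    exact ⟨fun hh => ⟨hh.1, hh.2.1⟩, fun hh => ⟨hh.1, hh.2, (S.outer_not_adj hh.1).2⟩⟩
  rw [e1, e2] at h1
  omega

theorem adjB_count : ∀ (p q : Bool) (i : Fin 112),
    ((List.finRange 112).filter fun j => j != i && if adjB i j then p else q).length =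
      30 * p.toNat + 81 * q.toNat := by
  decide +kernel

theorem T_eq : ∀ i j, L.T i j = adjB i j := by
  classical
  haveI := S.trans
  obtain ⟨p, q, hpq⟩ := L.T_cases
  have hself : ∀ i, L.T i i = false := fun i => by
    rw [Bool.eq_false_iff, Ne, L.T_iff]
    exact fun h => S.adj_ne h rfl
  set l := 30 * p.toNat + 81 * q.toNat with hldef
  have hdeg : ∀ i, (univ.filter fun j => L.T i j = true).card = l := by
    intro i
    rw [hldef, ← adjB_count p q i, ← List.toFinset_card_of_nodup ((List.nodup_finRange 112).filter _)]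
    refine congrArg Finset.card (Finset.ext fun j => ?_)
    simp only [mem_filter, mem_univ, true_and, List.mem_toFinset, List.mem_filter, List.mem_finRange,
      Bool.and_eq_true, bne_iff_ne]
    by_cases h : j = i
    · subst h; simp [hself]
    · rw [hpq i j h]; exact ⟨fun hh => ⟨h, hh⟩, fun hh => hh.2⟩
  have hlam : S.common S.a S.b = l := by
    rw [← S.common_adj (L.adj_a 0), L.common_split, ← hdeg 0, ← Set.ncard_coe_finset]
    exact congrArg Set.ncard (Set.ext fun j => by simp [L.T_iff])
  set m := S.common S.a S.c with hmdef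
  have hmu : ∀ z ∈ S.outer, (univ.filter fun i => z ∈ L.outN i).card = m := by
    intro z hz
    rw [hmdef, ← S.common_nonadj (S.outer_not_adj hz).2.symm (S.outer_not_adj hz).1, L.common_split,
      ← Set.ncard_coe_finset]
    refine congrArg Set.ncard (Set.ext fun i => ?_)
    simp only [coe_filter, mem_univ, true_and, Set.mem_setOf_eq, L.mem_outN, hz]
    exact ⟨S.adj_symm, S.adj_symm⟩
  have hdc : 112 * (111 - l) = 162 * m := by
    have h1 := sum_card_bipartiteAbove_eq_sum_card_bipartiteBelow (s := (univ : Finset (Fin 112)))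
      (t := S.outer) (fun i z => z ∈ L.outN i)
    rw [sum_congr rfl (g := fun _ => 111 - l),
      sum_congr rfl (g := fun _ => m) (f := fun z => ((univ : Finset (Fin 112)).bipartiteBelow
        (fun i z => z ∈ L.outN i) z).card) hmu] at h1
    · simpa [S.card_outer] using h1
    · intro i _
      have := L.card_outN i
      rw [hdeg i] at this
      rw [show bipartiteAbove (fun i z => z ∈ L.outN i) S.outer i = L.outN i from
        Finset.ext fun z => by simp [bipartiteAbove, L.mem_outN]]
      omega
  suffices hpq' : p = true ∧ q = false by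
    intro i j
    by_cases h : j = i
    · subst h; rw [hself, adjB_facts.2.1]
    · rw [hpq i j h, hpq'.1, hpq'.2]; cases adjB i j <;> rfl
  rcases p with _ | _ <;> rcases q with _ | _ <;> simp [l] at hdc ⊢ <;> try omega
  -- otherwise closed neighbourhoods of size 113 partition the points
  have hm : m = 0 := by omega
  let C : V → Finset V := fun x => insert x (univ.filter fun y => S.Adj x y)
  have htr : ∀ x y z, S.Adj x y → S.Adj y z → x = z ∨ S.Adj x z := by
    intro x y z h1 h2
    by_contra h
    push Not at h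
    have h0 := (S.common_nonadj h.1 h.2).trans hm
    rw [Setup.common, Set.ncard_eq_zero] at h0
    exact Set.eq_empty_iff_forall_notMem.1 h0 y ⟨h1, S.adj_symm h2⟩
  have hC : ∀ x y, y ∈ C x → C y = C x := by
    intro x y hy
    rcases mem_insert.1 hy with rfl | hy
    · rfl
    have hy : S.Adj x y := (mem_filter.1 hy).2
    ext z
    simp only [C, mem_insert, mem_filter, mem_univ, true_and]
    constructor
    · rintro (rfl | hz)
      · exact Or.inr hy
      · exact (htr x y z hy hz).imp Eq.symm id
    · rintro (rfl | hz)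
      · exact Or.inr (S.adj_symm hy)
      · exact (htr y x z (S.adj_symm hy) hz).imp Eq.symm id
  have h275 := card_eq_sum_card_image C (univ : Finset V)
  rw [sum_congr rfl (g := fun _ => 113) fun s hs => ?_, sum_const, card_univ, S.card,
    smul_eq_mul] at h275
  · omega
  obtain ⟨x, -, rfl⟩ := mem_image.1 hs
  have : univ.filter (fun y => C y = C x) = C x := by
    ext y
    simp only [mem_filter, mem_univ, true_and]
    exact ⟨fun e => e ▸ mem_insert_self y _, hC x y⟩
  rw [this, card_insert_of_notMem (by simpa using fun h => S.adj_ne h rfl), show 113 = 112 + 1 from rfl, ← S.adj_out x,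
    ← Set.ncard_coe_finset]
  simp

/-! ### The sets of lines attached to the outer points -/

theorem adj_iff (i j : Fin 112) : S.Adj (L.f i) (L.f j) ↔ adjB i j = true := by
  rw [← L.T_iff, L.T_eq]

theorem params : S.common S.a S.b = 30 ∧ ∀ i, (L.outN i).card = 81 := by
  classical
  have h30 : ∀ i : Fin 112, ((List.finRange 112).filter fun j => adjB i j).length = 30 := by
    decide +kernel
  have hd : ∀ i, (univ.filter fun j => L.T i j = true).card = 30 := by
    intro i
    rw [← h30 i, ← List.toFinset_card_of_nodup ((List.nodup_finRange 112).filter _)]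
    exact congrArg Finset.card (Finset.ext fun j => by simp [L.T_eq])
  refine ⟨?_, fun i => by have := L.card_outN i; have := hd i; omega⟩
  rw [← S.common_adj (L.adj_a 0), L.common_split, ← hd 0, ← Set.ncard_coe_finset]
  exact congrArg Set.ncard (Set.ext fun j => by simp [L.T_iff])

open _root_.Classical in
theorem outN_inter {i j : Fin 112} (h : adjB i j = true)
    (h2 : ((List.finRange 112).filter fun k => adjB i k && adjB j k).length = 2) :
    (S.outer.filter fun z => z ∈ L.outN i ∧ z ∈ L.outN j).card = 27 := by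
  classical
  have hs := L.outer_split (fun z => (S.Adj (L.f i) z ∧ S.Adj (L.f j) z) ∧ z ≠ S.a) fun z hz => hz.2
  have h1 : {z | (S.Adj (L.f i) z ∧ S.Adj (L.f j) z) ∧ z ≠ S.a}.ncard + 1 = 30 := by
    rw [← Set.ncard_insert_of_notMem (a := S.a) (fun hh => hh.2 rfl), ← L.params.1,
      ← S.common_adj ((L.adj_iff i j).2 h)]
    refine congrArg Set.ncard (Set.ext fun z => ?_)
    simp only [Set.mem_insert_iff, Set.mem_setOf_eq]
    constructor
    · rintro (rfl | hz)
      · exact ⟨S.adj_symm (L.adj_a i), S.adj_symm (L.adj_a j)⟩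
      · exact hz.1
    · intro hz
      by_cases e : z = S.a
      · exact Or.inl e
      · exact Or.inr ⟨hz, e⟩
  rw [hs] at h1
  have e1 : (univ.filter fun k => (S.Adj (L.f i) (L.f k) ∧ S.Adj (L.f j) (L.f k)) ∧ L.f k ≠ S.a).card
      = 2 := by
    rw [← h2, ← List.toFinset_card_of_nodup ((List.nodup_finRange 112).filter _)]
    refine congrArg Finset.card (Finset.ext fun k => ?_)
    simp only [mem_filter, mem_univ, true_and, List.mem_toFinset, List.mem_filter, List.mem_finRange,
      Bool.and_eq_true, L.adj_iff]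
    exact ⟨fun hh => hh.1, fun hh => ⟨hh, (S.adj_ne (L.adj_a k)).symm⟩⟩
  have e2 : (S.outer.filter fun z => (S.Adj (L.f i) z ∧ S.Adj (L.f j) z) ∧ z ≠ S.a) =
      S.outer.filter fun z => z ∈ L.outN i ∧ z ∈ L.outN j := by
    refine filter_congr fun z hz => ?_
    simp only [L.mem_outN, hz, true_and]
    exact ⟨fun hh => hh.1, fun hh => ⟨hh, (S.outer_not_adj hz).2⟩⟩
  rw [e1, e2] at h1
  omega

/-- The lines attached to an outer point. -/
noncomputable def X (z : V) (i : Fin 112) : Bool := by classical exact decide (S.Adj (L.f i) z)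

theorem X_iff {z : V} {i : Fin 112} : L.X z i = true ↔ S.Adj (L.f i) z := by simp [X]

theorem X_smul (l : LL) (z : V) (i : Fin 112) : L.X (L.e.symm l • z) (l • i) = L.X z i := by
  rw [Bool.eq_iff_iff, L.X_iff, L.X_iff, L.adj_smul_outer]

theorem X_line {z : V} (hz : z ∈ S.outer) {l : List Nat} (hl : l ∈ Data.lines) :
    (l.filter fun i => L.X z (Fin.ofNat 112 i)).length = 2 := by
  classical
  obtain ⟨-, -, -, hl4, hpair, -⟩ := search_checks
  obtain ⟨h4, hlt, hnd⟩ := hl4 l hl
  let F : Finset (Fin 112) := (l.map (Fin.ofNat 112)).toFinset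
  have hnd' : (l.map (Fin.ofNat 112)).Nodup := List.Nodup.map_on (fun x hx y hy e => by
    have hx' : x < 112 := by simpa using List.all_eq_true.1 hlt x hx
    have hy' : y < 112 := by simpa using List.all_eq_true.1 hlt y hy
    have := congrArg Fin.val e
    simp [Fin.val_ofNat, Nat.mod_eq_of_lt hx', Nat.mod_eq_of_lt hy'] at this
    exact this) hnd
  have hF : F.card = 4 := by rw [List.toFinset_card_of_nodup hnd', List.length_map, h4]
  let I : V → Fin 112 → ℤ := fun w i => if w ∈ L.outN i then 1 else 0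
  let N : V → ℤ := fun w => ∑ i ∈ F, I w i
  have hI : ∀ i ∈ F, ∀ j ∈ F, (∑ w ∈ S.outer, I w i * I w j) = if i = j then 81 else 27 := by
    intro i hi j hj
    have hp : ∀ w, I w i * I w j = if w ∈ L.outN i ∧ w ∈ L.outN j then 1 else 0 := fun w => by
      by_cases a : w ∈ L.outN i <;> by_cases b : w ∈ L.outN j <;> simp [I, a, b]
    simp only [hp, Finset.sum_boole]
    split
    · subst j
      exact_mod_cast (congrArg Finset.card (Finset.ext fun w => by simp [L.mem_outN])).trans
        (L.params.2 i)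
    · next hij =>
      obtain ⟨x, hx, rfl⟩ := List.mem_map.1 (List.mem_toFinset.1 hi)
      obtain ⟨y, hy, rfl⟩ := List.mem_map.1 (List.mem_toFinset.1 hj)
      obtain ⟨ha, h2⟩ := hpair l hl x hx y hy fun e => hij (by rw [e])
      exact_mod_cast L.outN_inter ha h2
  have h1 : (∑ w ∈ S.outer, N w) = 324 := by
    rw [Finset.sum_comm]
    rw [sum_congr rfl (g := fun _ => (81 : ℤ))]
    · simp [hF]
    · intro i hi
      have := hI i hi i hi
      rw [if_pos rfl] at this
      rw [← this]
      exact sum_congr rfl fun w _ => by by_cases a : w ∈ L.outN i <;> simp [I, a]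
  have h2 : (∑ w ∈ S.outer, N w * N w) = 648 := by
    simp only [N, Finset.sum_mul_sum]
    rw [Finset.sum_comm]
    rw [sum_congr rfl fun i hi => ?_]
    rotate_left
    · exact fun _ => 162
    · rw [Finset.sum_comm, sum_congr rfl fun j hj => hI i hi j hj,
        show (fun j : Fin 112 => if i = j then (81 : ℤ) else 27) =
          fun j => 27 + if i = j then 54 else 0 from funext fun j => by split <;> norm_num,
        sum_add_distrib, sum_ite_eq, if_pos hi]
      simp [hF]
    simp [hF]
  have h3 : (∑ w ∈ S.outer, (N w - 2) ^ 2) = 0 := by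
    have e : ∀ w, (N w - 2) ^ 2 = N w * N w - 4 * N w + 4 := fun w => by ring
    simp only [e, sum_add_distrib, sum_sub_distrib, ← mul_sum, h1, h2, sum_const, S.card_outer]
    norm_num
  have h4' := (sum_eq_zero_iff_of_nonneg fun w _ => sq_nonneg _).1 h3 z hz
  have hN : N z = 2 := by nlinarith
  have hNX : N z = ((F.filter fun i => L.X z i = true).card : ℤ) := by
    simp only [N, I, Finset.sum_boole]
    exact_mod_cast congrArg Finset.card (filter_congr fun i _ => by simp [L.mem_outN, hz, L.X_iff])
  have e : (F.filter fun i => L.X z i = true).card =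
      (l.filter fun i => L.X z (Fin.ofNat 112 i)).length := by
    have hfe : F.filter (fun i => L.X z i = true) =
        ((l.map (Fin.ofNat 112)).filter fun i => L.X z i).toFinset := by
      ext i; simp [F]
    rw [hfe, List.toFinset_card_of_nodup (hnd'.filter _), List.filter_map, List.length_map]
    rfl
  omega

theorem exists_hemi : ∃ z ∈ S.outer, ∃ k < Data.sols.length,
    ∀ i, L.X z i = (Data.sols.getD k 0).testBit i.val := by
  classical
  haveI : Fact (Nat.Prime 7) := ⟨by norm_num⟩
  obtain ⟨z, hz⟩ := Finset.card_pos.1 (by rw [S.card_outer]; norm_num : 0 < S.outer.card)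
  let Z : Subgroup LL := (stabilizer (stabilizer G S.a) z).map L.e.toMonoidHom
  have h7 : 7 ∣ Nat.card Z := by
    rw [← Nat.card_congr (Subgroup.equivMapOfInjective _ _ (MulEquiv.injective L.e)).toEquiv]
    have h := Nat.card_congr (orbitProdStabilizerEquivGroup (stabilizer G S.a) z)
    rw [Nat.card_prod, Nat.card_coe_set_eq, orbit_eq_iff.2 (S.mem_outer.1 hz), S.hc, S.card_stab] at h
    omega
  haveI : Finite Z := inferInstance
  obtain ⟨t, ht⟩ := exists_prime_orderOf_dvd_card' 7 h7
  have hp : ∀ x : LL, orderOf x = 7 → ∀ P : Sylow 7 LL, Subgroup.zpowers x ≤ P →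
      Subgroup.zpowers x = P := by
    intro x hx P hP
    refine Subgroup.eq_of_le_of_card_ge hP ?_
    rw [Nat.card_zpowers, hx]
    obtain ⟨n, hn⟩ := IsPGroup.iff_card.1 P.isPGroup'
    have h2 := P.toSubgroup.card_subgroup_dvd_card
    rw [card_LL, hn] at h2
    rw [hn]
    have : n ≤ 1 := by
      by_contra hh
      exact absurd ((pow_dvd_pow 7 (by omega : 2 ≤ n)).trans h2) (by norm_num)
    exact le_trans (Nat.pow_le_pow_right (by norm_num) this) (by norm_num)
  have ht' : orderOf (t : LL) = 7 := by rw [Subgroup.orderOf_coe, ht]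
  have hg : ∀ x : LL, orderOf x = 7 → IsPGroup 7 (Subgroup.zpowers x) := fun x hx =>
    IsPGroup.of_card (n := 1) (by rw [Nat.card_zpowers, hx]; norm_num)
  obtain ⟨P, hP⟩ := (hg _ ht').exists_le_sylow
  obtain ⟨Q, hQ⟩ := (hg _ orderOf_sevenEl).exists_le_sylow
  obtain ⟨x, hx⟩ := exists_smul_eq LL P Q
  have hs : sevenEl ∈ MulAut.conj x • (P : Subgroup LL) := by
    rw [← Sylow.coe_subgroup_smul]
    exact hx ▸ hQ (Subgroup.mem_zpowers _)
  obtain ⟨p, hp', he⟩ := Subgroup.mem_map.1 hs
  rw [← hp _ ht' P hP] at hp'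
  have hpZ : p ∈ Z := Subgroup.zpowers_le.2 t.2 hp'
  obtain ⟨w, hw, hwp⟩ := Subgroup.mem_map.1 hpZ
  refine ⟨L.e.symm x • z, S.smul_outer _ hz, hemi_classify _ (fun l hl =>
    L.X_line (S.smul_outer _ hz) hl) fun i => ?_⟩
  have e : sevenEl = x * p * x⁻¹ := he.symm
  rw [e, mul_smul, mul_smul, L.X_smul]
  conv_rhs => rw [← smul_inv_smul x i, L.X_smul]
  have hpz : L.e.symm p • z = z := by
    rw [← hwp]
    show L.e.symm (L.e w) • z = z
    rw [L.e.symm_apply_apply]
    exact hw
  conv_lhs => rw [← hpz, L.X_smul]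

end LineMap

end Cfsg.Agent.Lib.McL275
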