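import Cfsg.Agent.Lib.McL275.Main
import Cfsg.Agent.Lib.Leech.SporConway

/-!
A group as in `Setup` is the McLaughlin group: the stabiliser of two minimal vectors acting on the
275 vectors attached to them is such a group.
-/

set_option autoImplicit false

namespace Cfsg.Agent.Lib.McL275

open Cfsg MulAction
open Cfsg.Agent.Lib.Leech
open Cfsg.Agent.Lib.Leech.U43

/-- Conjugate stabilisers of pairs. -/
def pairConjEquiv (g : Co0) (a b : leechLattice) :
    ↥(pairStab a b) ≃* ↥(pairStab (g • a) (g • b)) where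
  toFun h := ⟨g * h.1 * g⁻¹, by
    have e : ∀ t : leechLattice, h.1 • t = t → (g * h.1 * g⁻¹) • g • t = g • t := fun t ht => by
      rw [mul_smul, mul_smul, inv_smul_smul, ht]
    exact ⟨e a h.2.1, e b h.2.2⟩⟩
  invFun h := ⟨g⁻¹ * h.1 * g, by
    have e : ∀ t : leechLattice, h.1 • g • t = g • t → (g⁻¹ * h.1 * g) • t = t := fun t ht => by
      rw [mul_smul, mul_smul, ht, inv_smul_smul]
    exact ⟨e a h.2.1, e b h.2.2⟩⟩
  left_inv h := Subtype.ext (by simp [mul_assoc])
  right_inv h := Subtype.ext (by simp [mul_assoc])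
  map_mul' x y := Subtype.ext (by simp [mul_assoc])

theorem isoMcL_of_setup {G V : Type*} [Group G] [MulAction G V] [Fintype V] [FaithfulSMul G V]
    (S : Setup G V) : Spor.IsoMcL G := by
  classical
  obtain ⟨hu32, -, -, hw32, huw, -⟩ := spor_vectors
  have hb : sqNorm (baseU : GolayPt → ℤ) = 32 ∧ sqNorm (baseC : GolayPt → ℤ) = 32 ∧
      dotInt (baseU : GolayPt → ℤ) (baseC : GolayPt → ℤ) = -8 :=
    ⟨sqNorm_repA, show sqNorm (vec31 none) = 32 by decide +kernel,
      show dotInt repA (vec31 none) = -8 by decide +kernel⟩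
  obtain ⟨g, hgu, hgw⟩ := exists_smul_two (fun hx hy => connU_neg8 hx hy) (N := 32) (s := -2)
    (v := baseU) (w := baseC) (v' := Spor.leechU) (w' := -(Spor.leechV + Spor.leechU))
    ⟨hb.1, hb.2.1, hb.2.2⟩ ⟨hu32, hw32, huw⟩
  let ψ : ↥(pairStab baseU baseC) ≃* Spor.McL :=
    (pairConjEquiv g baseU baseC).trans ((MulEquiv.subgroupCongr
      (by rw [hgu, hgw, stab_McL_eq] :
        pairStab (g • baseU) (g • baseC) =
          MulAction.stabilizer Co0 Spor.leechV ⊓ MulAction.stabilizer Co0 Spor.leechU)).trans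
      mclEquiv.symm)
  set K := pairStab baseU baseC
  haveI : IsSimpleGroup K := isSimpleGroup_stab_McL hb.1 hb.2.1 hb.2.2
  let W := pairConfig baseU baseC 16 8
  letI : MulAction K W :=
    { smul := fun k x => ⟨k.1 • x.1, pairConfig_inv k _ x.2⟩
      one_smul := fun x => Subtype.ext (one_smul Co0 x.1)
      mul_smul := fun k l x => Subtype.ext (mul_smul k.1 l.1 x.1) }
  have hW : Nat.card W = 275 := (Nat.card_coe_set_eq W).trans mcl_ncard
  haveI : Finite W := Nat.finite_of_card_ne_zero (by omega)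
  haveI : Fintype W := Fintype.ofFinite _
  have hroot : mclRoot ∈ W := configOk_mem (by decide +kernel)
  haveI htr : IsPretransitive K W := ⟨fun x y => by
    obtain ⟨h, hh⟩ := mcl_transitive x.2
    obtain ⟨k, hk⟩ := mcl_transitive y.2
    refine ⟨k * h⁻¹, Subtype.ext ?_⟩
    show (k.1 * h.1⁻¹) • x.1 = y.1
    rw [← hh, ← hk]
    show (k.1 * h.1⁻¹) • h.1 • mclRoot = k.1 • mclRoot
    rw [mul_smul, inv_smul_smul]⟩
  haveI : FaithfulSMul K W := by
    refine ⟨fun {k l} hkl => ?_⟩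
    rcases (MonoidHom.normal_ker (MulAction.toPermHom K W)).eq_bot_or_eq_top with h | h
    · exact (MonoidHom.ker_eq_bot_iff _).1 h (Equiv.ext hkl)
    · exfalso
      haveI : Nontrivial W := Fintype.one_lt_card_iff_nontrivial.1 (by
        rw [← Nat.card_eq_fintype_card, hW]; norm_num)
      obtain ⟨x, y, hxy⟩ := exists_pair_ne W
      obtain ⟨f, hf⟩ := exists_smul_eq K x y
      have hf' : f ∈ (MulAction.toPermHom K W).ker := h ▸ Subgroup.mem_top f
      exact hxy ((show f • x = x from Equiv.ext_iff.1 (MonoidHom.mem_ker.1 hf') x) ▸ hf)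
  let r : W := ⟨mclRoot, hroot⟩
  let φ : stabilizer K r ≃* LL :=
    (({ toFun := fun f => ⟨f.1.1, f.1.2, congrArg Subtype.val f.2⟩
        invFun := fun f => ⟨⟨f.1, f.2.1⟩, Subtype.ext f.2.2⟩
        left_inv := fun _ => rfl
        right_inv := fun _ => rfl
        map_mul' := fun _ _ => rfl } : stabilizer K r ≃* ↥H43)).trans lineEquiv
  have horb : ∀ u : W, u ≠ r → Subtype.val '' orbit (stabilizer K r) u =
      {t | t ∈ W ∧ t ≠ mclRoot ∧ dotInt (mclRoot : GolayPt → ℤ) (t : GolayPt → ℤ) =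
        dotInt (mclRoot : GolayPt → ℤ) (u.1 : GolayPt → ℤ)} := by
    intro u hur
    ext t
    constructor
    · rintro ⟨_, ⟨k, rfl⟩, rfl⟩
      have hkx : k.1.1 • mclRoot = mclRoot := congrArg Subtype.val k.2
      refine ⟨pairConfig_inv k.1 _ u.2,
        fun e => hur (Subtype.ext (MulAction.injective k.1.1 (e.trans hkx.symm))), ?_⟩
      show dotInt (mclRoot : GolayPt → ℤ) ((k.1.1 • u.1 : leechLattice) : GolayPt → ℤ) = _
      have hd := dotInt_smul k.1.1 mclRoot u.1
      rw [hkx] at hd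
      exact hd
    · rintro ⟨ht, -, hd⟩
      obtain ⟨k, hk, hk'⟩ := mcl_suborbit u.2 ht hd.symm
      exact ⟨_, ⟨⟨k, Subtype.ext hk⟩, rfl⟩, hk'⟩
  obtain ⟨h112, h162⟩ := mcl_subdegrees
  obtain ⟨y, hy, hyd⟩ := Set.nonempty_of_ncard_ne_zero (h112.trans_ne (by norm_num))
  obtain ⟨z, hz, hzr, hzd⟩ := Set.nonempty_of_ncard_ne_zero (h162.trans_ne (by norm_num))
  have hne : ∀ t : leechLattice, dotInt (mclRoot : GolayPt → ℤ) (t : GolayPt → ℤ) = 8 →
      t ≠ mclRoot := by
    rintro t h rfl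
    rw [dotInt_self, hroot.1] at h
    omega
  refine ⟨(setup_iso S (⟨r, ⟨y, hy⟩, ⟨z, hz⟩, φ, htr, ?_, ?_, ?_⟩ : Setup K W)).some.trans ψ⟩
  · rw [← Nat.card_eq_fintype_card, hW]
  · rw [← Set.ncard_image_of_injective _ Subtype.val_injective,
      horb _ (fun e => hne y hyd (congrArg Subtype.val e))]
    refine Eq.trans (congrArg Set.ncard ?_) h112
    ext t
    simp only [Set.mem_setOf_eq, hyd]
    exact ⟨fun ⟨a, _, c⟩ => ⟨a, c⟩, fun ⟨a, c⟩ => ⟨a, hne t c, c⟩⟩
  · rw [← Set.ncard_image_of_injective _ Subtype.val_injective,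
      horb _ (fun e => hzr (congrArg Subtype.val e))]
    refine Eq.trans (congrArg Set.ncard ?_) h162
    ext t
    simp only [Set.mem_setOf_eq, hzd]
    rfl

end Cfsg.Agent.Lib.McL275
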