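import Cfsg.Agent.Lib.Leech.Stab275Iso
import Cfsg.Agent.Lib.McL275.Data
import Mathlib.GroupTheory.Sylow

/-!
The group `U₄(3)` on the 112 totally isotropic lines: its point stabilisers are the subgroups of
index 112, and its suborbits have sizes 1, 30 and 81.
-/

set_option autoImplicit false
set_option maxRecDepth 20000

namespace Cfsg.Agent.Lib.McL275

open Cfsg MulAction
open Cfsg.Agent.Lib.Leech
open Cfsg.Agent.Lib.Leech.U43

/-- Permutations of the 112 lines. -/
abbrev P112 := Equiv.Perm (Fin 112)

theorem permG_injective : ∀ b : Fin 5, Function.Injective (permG b) := by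
  intro b
  exact actsH_injective (genH_acts b)

/-- A generator as a permutation. -/
noncomputable def genP (b : Fin 5) : P112 :=
  Equiv.ofBijective (permG b) (Finite.injective_iff_bijective.1 (permG_injective b))

/-- The group on the lines. -/
noncomputable def LL : Subgroup P112 := Subgroup.closure (Set.range genP)

theorem app_inv {α : Type*} (e : Equiv.Perm α) (x : α) : e (e⁻¹ x) = x :=
  e.apply_symm_apply x

/-- The permutation of a word. -/
noncomputable def wordP : List Nat → P112
  | [] => 1
  | b :: w => wordP w * genP (Fin.ofNat 5 b)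

theorem wordP_apply (w : List Nat) (i : Fin 112) : wordP w i = runW w i := by
  induction w generalizing i with
  | nil => rfl
  | cons b w ih => exact ih (permG (Fin.ofNat 5 b) i)

theorem wordP_mem (w : List Nat) : wordP w ∈ LL := by
  induction w with
  | nil => exact one_mem _
  | cons b w ih => exact mul_mem ih (Subgroup.subset_closure ⟨_, rfl⟩)

theorem wordP_append (u v : List Nat) : wordP (u ++ v) = wordP v * wordP u :=
  Equiv.ext fun i => by simp [wordP_apply, runW_append]

/-- A word as an element of the group. -/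
noncomputable def elL (w : List Nat) : LL := ⟨wordP w, wordP_mem w⟩

theorem elL_smul (w : List Nat) (i : Fin 112) : elL w • i = runW w i := wordP_apply w i

/-- A stabiliser element acts. -/
theorem exists_acts (g : ↥H43) : ∃ σ : Fin 112 → Fin 112, ActsH g.1 σ := by
  let p1 : ↥K43 →* ↥H43 := (MonoidHom.fst _ _).comp K43.subtype
  have h1 : Function.Injective p1 := by
    rw [← MonoidHom.ker_eq_bot_iff, Subgroup.eq_bot_iff_forall]
    rintro ⟨⟨g, u⟩, hz⟩ hg
    obtain ⟨σ, hA, hU⟩ := K43_good hz
    obtain rfl : g = 1 := hg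
    obtain rfl : σ = id := actsH_unique hA (fun i => one_smul _ _)
    exact Subtype.ext (Prod.ext rfl (actsU_id hU _ quad_check.1 quad_check.2.1 quad_check.2.2))
  haveI : Finite PSU9 := Nat.finite_of_card_ne_zero (by rw [card_PSU9]; norm_num)
  obtain ⟨z, rfl⟩ := ((Nat.bijective_iff_injective_and_card p1).2
    ⟨h1, le_antisymm (Nat.card_le_card_of_injective p1 h1) (card_H43.le.trans card_K43)⟩).2 g
  obtain ⟨σ, hσ, -⟩ := K43_good z.2
  exact ⟨σ, hσ⟩

/-- The map on lines of a stabiliser element. -/
noncomputable def lineFun (g : ↥H43) : Fin 112 → Fin 112 := (exists_acts g).choose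

theorem lineFun_spec (g : ↥H43) : ActsH g.1 (lineFun g) := (exists_acts g).choose_spec

theorem lineFun_eq {g : ↥H43} {σ : Fin 112 → Fin 112} (h : ActsH g.1 σ) : lineFun g = σ :=
  actsH_unique (lineFun_spec g) h

/-- The action on the lines. -/
noncomputable def rho : ↥H43 →* P112 where
  toFun g := Equiv.ofBijective (lineFun g)
    (Finite.injective_iff_bijective.1 (actsH_injective (lineFun_spec g)))
  map_one' := Equiv.ext fun i => congrFun (lineFun_eq (σ := id) fun j => one_smul _ _) i
  map_mul' g h := Equiv.ext fun i =>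
    congrFun (lineFun_eq (actsH_mul (lineFun_spec g) (lineFun_spec h))) i

theorem rho_injective : Function.Injective rho := by
  rw [← MonoidHom.ker_eq_bot_iff, Subgroup.eq_bot_iff_forall]
  intro g hg
  refine actsH_id ?_
  rw [← show lineFun g = id from funext fun i => Equiv.ext_iff.1 hg i]
  exact lineFun_spec g

theorem rho_gen (b : Fin 5) : rho (genH b) = genP b :=
  Equiv.ext fun i => congrFun (lineFun_eq (genH_acts b)) i

theorem card_LL_ge : 3265920 ≤ Nat.card LL := by
  let f : Fin 112 × Fin 81 × Fin 30 × Fin 12 → LL := fun t =>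
    elL (lev3 t.2.2.2 ++ lev2 t.2.2.1 ++ lev1 t.2.1 ++ lev0 t.1)
  have hf : Function.Injective f := by
    rintro ⟨a, b, c, d⟩ ⟨a', b', c', d'⟩ h
    have h' := congrArg (fun z : LL => z.1) h
    simp only [f, elL, wordP_append] at h'
    have e : ∀ x, wordP (lev0 a) (wordP (lev1 b) (wordP (lev2 c) (wordP (lev3 d) x)))
        = wordP (lev0 a') (wordP (lev1 b') (wordP (lev2 c') (wordP (lev3 d') x))) :=
      fun x => Equiv.ext_iff.1 h' x
    obtain ⟨n0, f1, n1, f2, n2, f3, n3⟩ := chain_check
    have ha : a = a' := by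
      have := e 0
      simp only [wordP_apply] at this
      rw [(f3 d).1, (f3 d').1, (f2 c).1, (f2 c').1, f1, f1] at this
      exact List.inj_on_of_nodup_map n0 (List.mem_finRange _) (List.mem_finRange _)
        (congrArg Fin.val this)
    subst ha
    have e1 := fun x => (wordP (lev0 a)).injective (e x)
    have hb : b = b' := by
      have := e1 5
      simp only [wordP_apply] at this
      rw [(f3 d).2.1, (f3 d').2.1, (f2 c).2, (f2 c').2] at this
      exact List.inj_on_of_nodup_map n1 (List.mem_finRange _) (List.mem_finRange _)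
        (congrArg Fin.val this)
    subst hb
    have e2 := fun x => (wordP (lev1 b)).injective (e1 x)
    have hc : c = c' := by
      have := e2 10
      simp only [wordP_apply] at this
      rw [(f3 d).2.2, (f3 d').2.2] at this
      exact List.inj_on_of_nodup_map n2 (List.mem_finRange _) (List.mem_finRange _)
        (congrArg Fin.val this)
    subst hc
    have := (wordP (lev2 c)).injective (e2 17)
    simp only [wordP_apply] at this
    obtain rfl : d = d' := List.inj_on_of_nodup_map n3 (List.mem_finRange _)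
      (List.mem_finRange _) (congrArg Fin.val this)
    rfl
  simpa using Nat.card_le_card_of_injective f hf

theorem rho_range : rho.range = LL := by
  have hle : LL ≤ rho.range :=
    (Subgroup.closure_le _).2 (by rintro _ ⟨b, rfl⟩; exact ⟨genH b, rho_gen b⟩)
  refine (Subgroup.eq_of_le_of_card_ge hle ?_).symm
  rw [← Nat.card_congr (MonoidHom.ofInjective rho_injective).toEquiv, card_H43]
  exact card_LL_ge

/-- The stabiliser as a group on the lines. -/
noncomputable def lineEquiv : ↥H43 ≃* LL :=
  (MonoidHom.ofInjective rho_injective).trans (MulEquiv.subgroupCongr rho_range)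

theorem card_LL : Nat.card LL = 3265920 :=
  (Nat.card_congr lineEquiv.toEquiv).symm.trans card_H43

/-! ### Orbits -/

/-- Collinearity. -/
def adjB (i j : Fin 112) : Bool := (Data.nb.getD i.val 0).testBit j.val

theorem adjB_facts :
    (∀ i j, adjB i j = adjB j i) ∧ (∀ i, adjB i i = false) ∧
    (∀ b i j, adjB (permG b i) (permG b j) = adjB i j) ∧
    ((List.finRange 112).filter fun j => adjB 0 j).length = 30 := by
  decide +kernel

theorem adjB_smul {l : P112} (hl : l ∈ LL) : ∀ i j, adjB (l i) (l j) = adjB i j := by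
  induction hl using Subgroup.closure_induction with
  | mem x hx => obtain ⟨b, rfl⟩ := hx; exact adjB_facts.2.2.1 b
  | one => exact fun i j => rfl
  | mul x y _ _ ihx ihy => exact fun i j => (ihx (y i) (y j)).trans (ihy i j)
  | inv x _ ih => exact fun i j => by simpa using (ih (x⁻¹ i) (x⁻¹ j)).symm

theorem lev0_cover : ∀ i : Fin 112, ∃ t : Fin 112, runW (lev0 t) 0 = i := by decide +kernel

instance : IsPretransitive LL (Fin 112) where
  exists_smul_eq i j := by
    obtain ⟨s, hs⟩ := lev0_cover i
    obtain ⟨t, ht⟩ := lev0_cover j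
    refine ⟨elL (lev0 t) * (elL (lev0 s))⁻¹, ?_⟩
    rw [mul_smul, inv_smul_eq_iff.2 (show i = elL (lev0 s) • (0 : Fin 112) from
      (hs.symm.trans (elL_smul _ _).symm)), elL_smul, ht]

theorem card_lineStab (i : Fin 112) : Nat.card (stabilizer LL i) = 29160 := by
  have h := (stabilizer LL i).card_mul_index
  rw [index_stabilizer_of_transitive, card_LL, Nat.card_fin] at h
  omega

theorem suborbit_words :
    (∀ w ∈ Data.orb30, runW w 0 = 0) ∧
    (∀ j : Fin 112, adjB 0 j = true →
      ∃ w ∈ Data.orb30, (runW w (Fin.ofNat 112 Data.start30)) = j) ∧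
    (∀ j : Fin 112, j ≠ 0 → adjB 0 j = false → ∃ t : Fin 81, runW (lev1 t) 5 = j) := by
  decide +kernel

/-- The stabiliser of a line is transitive on the other lines with given collinearity. -/
theorem suborbit_transitive {i j k : Fin 112} (hj : j ≠ i) (hk : k ≠ i)
    (h : adjB i j = adjB i k) : ∃ l ∈ LL, l i = i ∧ l j = k := by
  have base : ∀ j k : Fin 112, j ≠ 0 → k ≠ 0 → adjB 0 j = adjB 0 k →
      ∃ l ∈ LL, l 0 = 0 ∧ l j = k := by
    intro j k hj hk h
    have key : ∃ r : Fin 112, (∃ u ∈ LL, u 0 = 0 ∧ u r = j) ∧ ∃ u ∈ LL, u 0 = 0 ∧ u r = k := by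
      cases hjv : adjB 0 j
      · obtain ⟨s, hs⟩ := suborbit_words.2.2 j hj hjv
        obtain ⟨t, ht⟩ := suborbit_words.2.2 k hk (h ▸ hjv)
        exact ⟨5, ⟨_, wordP_mem (lev1 s), by rw [wordP_apply, chain_check.2.1],
          by rw [wordP_apply, hs]⟩, ⟨_, wordP_mem (lev1 t), by rw [wordP_apply, chain_check.2.1],
          by rw [wordP_apply, ht]⟩⟩
      · obtain ⟨w, hw, hs⟩ := suborbit_words.2.1 j hjv
        obtain ⟨w', hw', ht⟩ := suborbit_words.2.1 k (h ▸ hjv)
        exact ⟨_, ⟨_, wordP_mem w, by rw [wordP_apply, suborbit_words.1 w hw],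
          by rw [wordP_apply, hs]⟩, ⟨_, wordP_mem w', by rw [wordP_apply, suborbit_words.1 w' hw'],
          by rw [wordP_apply, ht]⟩⟩
    obtain ⟨r, ⟨u, hu, u0, uj⟩, ⟨v, hv, v0, vk⟩⟩ := key
    refine ⟨v * u⁻¹, mul_mem hv (inv_mem hu), ?_, ?_⟩
    · rw [Equiv.Perm.mul_apply, Equiv.Perm.inv_eq_iff_eq.2 u0.symm, v0]
    · rw [Equiv.Perm.mul_apply, Equiv.Perm.inv_eq_iff_eq.2 uj.symm, vk]
  obtain ⟨⟨m, hm⟩, hmi⟩ := exists_smul_eq LL (0 : Fin 112) i
  change m 0 = i at hmi
  obtain ⟨l, hl, l0, ljk⟩ := base (m⁻¹ j) (m⁻¹ k)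
    (fun e => hj (by rw [← hmi, ← e, app_inv]))
    (fun e => hk (by rw [← hmi, ← e, app_inv]))
    (by rw [← adjB_smul hm, ← adjB_smul hm (i := 0), hmi, app_inv,
      app_inv, h])
  refine ⟨m * l * m⁻¹, mul_mem (mul_mem hm hl) (inv_mem hm), ?_, ?_⟩
  · simp only [Equiv.Perm.mul_apply, Equiv.Perm.inv_eq_iff_eq.2 hmi.symm, l0, hmi]
  · simp only [Equiv.Perm.mul_apply, ljk, app_inv]

/-! ### Subgroups of index 112 -/

/-- A unipotent generator. -/
noncomputable def unipP (k : Nat) : P112 := wordP (Data.unip.getD k [])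

/-- The group of the first generators. -/
noncomputable def unipGrp : Nat → Subgroup P112
  | 0 => ⊥
  | k + 1 => Subgroup.zpowers (unipP k) ⊔ unipGrp k

theorem unipP_mem_grp {j k : Nat} (h : j < k) : unipP j ∈ unipGrp k := by
  induction k with
  | zero => omega
  | succ k ih =>
    rcases Nat.lt_succ_iff_lt_or_eq.1 h with h | rfl
    · exact Subgroup.mem_sup_right (ih h)
    · exact Subgroup.mem_sup_left (Subgroup.mem_zpowers _)

theorem unipGrp_eq (k : Nat) : unipGrp k = Subgroup.closure (unipP '' {j | j < k}) := by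
  refine le_antisymm ?_ ((Subgroup.closure_le _).2 (by rintro _ ⟨j, hj, rfl⟩; exact unipP_mem_grp hj))
  induction k with
  | zero => exact bot_le
  | succ k ih =>
    exact sup_le (Subgroup.zpowers_le.2 (Subgroup.subset_closure ⟨k, Nat.lt_succ_self k, rfl⟩))
      (ih.trans (Subgroup.closure_mono (Set.image_mono fun j (hj : j < k) => Nat.lt_succ_of_lt hj)))

theorem unip_checks : ∀ k : Fin 6,
    (∀ i : Fin 112, runW ((List.replicate 9 (Data.unip.getD k.val [])).flatten) i = i) ∧
    runW (Data.unip.getD k.val []) 0 = 0 ∧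
    ∀ j : Fin k.val, ((Data.unipConj.getD k.val []).getD j.val []).all (· < k.val) = true ∧
      ∀ i : Fin 112, runW (Data.unip.getD k.val []) (runW (Data.unip.getD j.val []) i) =
        runW ((((Data.unipConj.getD k.val []).getD j.val []).map
          (Data.unip.getD · [])).flatten) (runW (Data.unip.getD k.val []) i) := by
  decide +kernel

theorem wordP_replicate (n : Nat) (w : List Nat) :
    wordP (List.replicate n w).flatten = wordP w ^ n := by
  induction n with
  | zero => rfl
  | succ n ih => rw [List.replicate_succ, List.flatten_cons, wordP_append, ih, pow_succ]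

theorem wordP_flatten_mem {H : Subgroup P112} :
    ∀ ws : List (List Nat), (∀ w ∈ ws, wordP w ∈ H) → wordP ws.flatten ∈ H
  | [], _ => one_mem _
  | w :: ws, h => by
    rw [List.flatten_cons, wordP_append]
    exact mul_mem (wordP_flatten_mem ws fun v hv => h v (List.mem_cons_of_mem _ hv))
      (h w List.mem_cons_self)

theorem unipGrp_isPGroup : ∀ k, k ≤ 6 → IsPGroup 3 (unipGrp k)
  | 0, _ => IsPGroup.of_bot
  | k + 1, hk => by
    obtain ⟨h9, -, hc⟩ := unip_checks ⟨k, by omega⟩
    refine IsPGroup.to_sup_of_normal_right' ?_ (unipGrp_isPGroup k (by omega)) ?_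
    · refine IsPGroup.iff_orderOf.2 fun g => ?_
      have hd : orderOf (unipP k) ∣ 3 ^ 2 := orderOf_dvd_of_pow_eq_one (by
        rw [show 3 ^ 2 = 9 from rfl, unipP, ← wordP_replicate]
        exact Equiv.ext fun i => (wordP_apply _ i).trans (h9 i))
      obtain ⟨m, hm⟩ := Subgroup.mem_zpowers_iff.1 g.2
      have : orderOf (g : P112) ∣ 3 ^ 2 := by rw [← hm]; exact (orderOf_dvd_of_mem_zpowers (Subgroup.mem_zpowers_iff.2 ⟨m, rfl⟩)).trans hd
      rw [Subgroup.orderOf_coe] at this
      exact ((Nat.dvd_prime_pow Nat.prime_three).1 this).imp fun _ => And.right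
    · rw [Subgroup.zpowers_le]
      have hle : (unipGrp k).map (MulAut.conj (unipP k)).toMonoidHom ≤ unipGrp k := by
        conv_lhs => rw [unipGrp_eq k]
        rw [MonoidHom.map_closure, Subgroup.closure_le]
        rintro _ ⟨_, ⟨j, hj, rfl⟩, rfl⟩
        obtain ⟨hlt, he⟩ := hc ⟨j, hj⟩
        show unipP k * unipP j * (unipP k)⁻¹ ∈ unipGrp k
        have e : unipP k * unipP j = wordP ((((Data.unipConj.getD k []).getD j []).map
            (Data.unip.getD · [])).flatten) * unipP k := Equiv.ext fun i => by
          simp only [unipP, Equiv.Perm.mul_apply, wordP_apply]; exact he i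
        rw [e, mul_inv_cancel_right]
        refine wordP_flatten_mem _ fun w hw => ?_
        obtain ⟨n, hn, rfl⟩ := List.mem_map.1 hw
        exact unipP_mem_grp (by simpa using List.all_eq_true.1 hlt n hn)
      have heq : (unipGrp k).map (MulAut.conj (unipP k)).toMonoidHom = unipGrp k :=
        Subgroup.eq_of_le_of_card_ge hle (le_of_eq (Nat.card_congr
          (Subgroup.equivMapOfInjective _ _ (MulEquiv.injective _)).toEquiv))
      rw [Subgroup.mem_normalizer_iff]
      intro h
      constructor
      · exact fun hh => heq.le (Subgroup.mem_map_of_mem _ hh)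
      · intro hh
        obtain ⟨h', hh', e⟩ := Subgroup.mem_map.1 (heq.ge hh)
        obtain rfl : h' = h := by simpa using e
        exact hh'

/-- The Sylow subgroup fixing the first line, in the group. -/
noncomputable def U3 : Subgroup LL := Subgroup.closure ((fun k : Fin 6 => elL (Data.unip.getD k.val [])) '' Set.univ)

theorem U3_isPGroup : IsPGroup 3 U3 := by
  have hle : U3.map LL.subtype ≤ unipGrp 6 := by
    rw [U3, MonoidHom.map_closure, Subgroup.closure_le]
    rintro _ ⟨_, ⟨k, -, rfl⟩, rfl⟩
    exact unipP_mem_grp k.isLt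
  exact ((unipGrp_isPGroup 6 le_rfl).to_le hle).of_equiv
    (Subgroup.equivMapOfInjective U3 _ Subtype.val_injective).symm

theorem U3_le_stab : U3 ≤ stabilizer LL (0 : Fin 112) := by
  rw [U3, Subgroup.closure_le]
  rintro _ ⟨k, -, rfl⟩
  exact (elL_smul _ _).trans (unip_checks k).2.1

theorem unip_orbit_checks :
    (∀ k : Fin 6, ∀ i : Fin 112, ∀ m : Fin 4,
      (Data.unipOrbits.getD m.val 0).testBit (runW (Data.unip.getD k.val []) i).val =
        (Data.unipOrbits.getD m.val 0).testBit i.val) := by
  decide +kernel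

/-- The four orbits. -/
def unipClass (i : Fin 112) : Fin 4 :=
  if (Data.unipOrbits.getD 0 0).testBit i.val then 0
  else if (Data.unipOrbits.getD 1 0).testBit i.val then 1
  else if (Data.unipOrbits.getD 2 0).testBit i.val then 2 else 3

end Cfsg.Agent.Lib.McL275
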