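import Cfsg.Agent.Lib.McL275.Lines

/-!
Subgroups of index 112 are line stabilisers, and the sets of lines meeting every clique of size
four twice that are invariant under a fixed element of order seven.
-/

set_option autoImplicit false
set_option maxRecDepth 20000

namespace Cfsg.Agent.Lib.McL275

open Cfsg MulAction
open Cfsg.Agent.Lib.Leech.U43
open scoped Pointwise

/-- The four orbit masks of the Sylow subgroup. -/
def uMask (m : Fin 4) : Nat := Data.unipOrbits.getD m.val 0

/-- The mask of a four-set moved along a word. -/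
def fourImg (w : List Nat) (i : Fin 112) : Bool :=
  (uMask 0).testBit i.val || (uMask 1).testBit i.val

theorem four_checks :
    (∀ i : Fin 112, ((List.finRange 4).filter fun m => (uMask m).testBit i.val).length = 1) ∧
    ((List.finRange 4).map fun m => ((List.finRange 112).filter
      fun i => (uMask m).testBit i.val).length) = [1, 3, 27, 81] ∧
    (uMask 0).testBit 0 = true ∧
    (∀ m : Fin 4, ∀ i j : Fin 112, (uMask m).testBit i.val = true → (uMask m).testBit j.val = true →
      i = j ∨ m ≠ 0) ∧
    Data.moved.length = 113 ∧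
    ((Data.moved.map fun w => (((List.finRange 112).filter fun i => fourImg w i).map
      fun i => 2 ^ (runW w i).val).sum)).Nodup := by
  decide +kernel

/-- Steps of the orbit of a point under the Sylow subgroup. -/
def uOrbit : Nat → Fin 112 → List (Fin 112)
  | 0, i => [i]
  | n + 1, i => ((uOrbit n i) ++ (uOrbit n i).flatMap fun j =>
      (List.range 6).map fun k => runW (Data.unip.getD k []) j).eraseDups

theorem uOrbit_cover : ∀ m : Fin 4, ∀ i j : Fin 112, (uMask m).testBit i.val = true →
    (uMask m).testBit j.val = true → i = Fin.ofNat 112 ((List.range 112).findIdx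
      fun k => (uMask m).testBit k) → j ∈ uOrbit 6 i := by
  decide +kernel

theorem uRep_mem : ∀ m : Fin 4, (uMask m).testBit (Fin.ofNat 112 ((List.range 112).findIdx
    fun k => (uMask m).testBit k)).val = true := by
  decide +kernel

theorem mem_uOrbit : ∀ (n : Nat) (i j : Fin 112), j ∈ uOrbit n i → ∃ u ∈ U3, u • i = j
  | 0, i, j, h => ⟨1, one_mem _, by simpa [uOrbit] using (by simpa [uOrbit] using h : j = i).symm⟩
  | n + 1, i, j, h => by
    simp only [uOrbit, List.mem_eraseDups, List.mem_append, List.mem_flatMap, List.mem_map,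
      List.mem_range] at h
    rcases h with h | ⟨k, hk, m, hm, rfl⟩
    · exact mem_uOrbit n i j h
    · obtain ⟨u, hu, rfl⟩ := mem_uOrbit n i k hk
      exact ⟨elL (Data.unip.getD m []) * u,
        mul_mem (Subgroup.subset_closure ⟨⟨m, hm⟩, trivial, rfl⟩) hu, by rw [mul_smul, elL_smul]⟩

/-- **Subgroups of index 112 are line stabilisers.** -/
theorem eq_lineStab (M : Subgroup LL) (hM : Nat.card M = 29160) :
    ∃ i : Fin 112, M = stabilizer LL i := by
  classical
  haveI : Fact (Nat.Prime 3) := ⟨by norm_num⟩
  -- Sylow subgroups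
  have pow729 : ∀ n, 3 ^ n ∣ 29160 → 3 ^ n ∣ 729 := fun n h =>
    (Nat.Coprime.dvd_of_dvd_mul_right (Nat.Coprime.pow_left n (by norm_num : Nat.Coprime 3 40))
      (by norm_num at h ⊢; exact h))
  have hG729 : ∀ Q : Sylow 3 LL, Nat.card Q = 729 := fun Q => by
    have h1 : 729 ∣ Nat.card Q := by
      have := Q.pow_dvd_card_of_pow_dvd_card (n := 6) (by rw [card_LL]; norm_num)
      simpa using this
    obtain ⟨n, hn⟩ := IsPGroup.iff_card.1 Q.isPGroup'
    have h2 := Q.toSubgroup.card_subgroup_dvd_card
    rw [card_LL, hn] at h2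
    have : 3 ^ n ∣ 729 := Nat.Coprime.dvd_of_dvd_mul_right
      (Nat.Coprime.pow_left n (by norm_num : Nat.Coprime 3 4480)) (by norm_num at h2 ⊢; exact h2)
    exact Nat.dvd_antisymm (hn ▸ this) h1
  set P := stabilizer LL (0 : Fin 112)
  have hU : IsPGroup 3 (U3.subgroupOf P) :=
    U3_isPGroup.of_injective (Subgroup.subgroupOfEquivOfLe U3_le_stab).toMonoidHom
      (MulEquiv.injective _)
  obtain ⟨Q₀, hQ₀⟩ := hU.exists_le_sylow
  let Q : Subgroup LL := (Q₀ : Subgroup P).map P.subtype
  have hQP : Q ≤ P := Subgroup.map_subtype_le _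
  have hUQ : U3 ≤ Q := fun u hu => ⟨⟨u, U3_le_stab hu⟩, hQ₀ hu, rfl⟩
  have hQc : Nat.card Q = 729 := by
    rw [Nat.card_congr (Subgroup.equivMapOfInjective _ _ Subtype.val_injective).symm.toEquiv]
    have h1 : 729 ∣ Nat.card Q₀ := by
      have := Q₀.pow_dvd_card_of_pow_dvd_card (n := 6) (by rw [card_lineStab]; norm_num)
      simpa using this
    obtain ⟨n, hn⟩ := IsPGroup.iff_card.1 Q₀.isPGroup'
    have h2 := Q₀.toSubgroup.card_subgroup_dvd_card
    rw [card_lineStab, hn] at h2
    exact Nat.dvd_antisymm (hn ▸ pow729 n h2) h1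
  -- a Sylow subgroup of M
  obtain ⟨R₀⟩ := (inferInstance : Nonempty (Sylow 3 M))
  let R : Subgroup LL := (R₀ : Subgroup M).map M.subtype
  have hRc : Nat.card R = 729 := by
    rw [Nat.card_congr (Subgroup.equivMapOfInjective _ _ Subtype.val_injective).symm.toEquiv]
    have h1 : 729 ∣ Nat.card R₀ := by
      have := R₀.pow_dvd_card_of_pow_dvd_card (n := 6) (by rw [hM]; norm_num)
      simpa using this
    obtain ⟨n, hn⟩ := IsPGroup.iff_card.1 R₀.isPGroup'
    have h2 := R₀.toSubgroup.card_subgroup_dvd_card
    rw [hM, hn] at h2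
    exact Nat.dvd_antisymm (hn ▸ pow729 n h2) h1
  have hRp : IsPGroup 3 R := IsPGroup.of_card (n := 6) (by rw [hRc]; norm_num)
  have hQp : IsPGroup 3 Q := IsPGroup.of_card (n := 6) (by rw [hQc]; norm_num)
  obtain ⟨SR, hSR⟩ := hRp.exists_le_sylow
  obtain ⟨SQ, hSQ⟩ := hQp.exists_le_sylow
  obtain ⟨x, hx⟩ := exists_smul_eq LL SR SQ
  set M' := MulAut.conj x • M
  have hQM : Q ≤ M' := by
    have e1 : R = SR.toSubgroup := Subgroup.eq_of_le_of_card_ge hSR (by rw [hRc]; exact (hG729 SR).le)
    have e2 : Q = SQ.toSubgroup := Subgroup.eq_of_le_of_card_ge hSQ (by rw [hQc]; exact (hG729 SQ).le)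
    rw [e2, ← hx, Sylow.coe_subgroup_smul, ← e1]
    exact Subgroup.map_mono (Subgroup.map_subtype_le _)
  have hM' : Nat.card M' = 29160 := by
    rw [← hM]; exact (Nat.card_congr (Subgroup.equivSMul (MulAut.conj x) M).toEquiv).symm
  -- the orbit of the first line
  let O : Finset (Fin 112) := Finset.univ.filter fun i => ∃ m ∈ M', m • (0 : Fin 112) = i
  have hO0 : (0 : Fin 112) ∈ O :=
    Finset.mem_filter.2 ⟨Finset.mem_univ _, 1, one_mem M', one_smul _ _⟩
  have hOinv : ∀ m ∈ M', ∀ i ∈ O, m • i ∈ O := by
    intro m hm i hi
    obtain ⟨n, hn, rfl⟩ := (Finset.mem_filter.1 hi).2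
    exact Finset.mem_filter.2 ⟨Finset.mem_univ _, m * n, mul_mem hm hn, mul_smul m n _⟩
  have hstab : Nat.card ↥(M' ⊓ P) * O.card = 29160 := by
    rw [← hM', ← Nat.card_congr (orbitProdStabilizerEquivGroup M' (0 : Fin 112)), Nat.card_prod,
      mul_comm]
    refine congrArg₂ (· * ·) ?_ (Nat.card_congr ?_)
    · rw [← Set.ncard_coe_finset, Nat.card_coe_set_eq]
      refine congrArg Set.ncard (Set.ext fun i => ?_)
      simp only [O, Finset.coe_filter, Finset.mem_univ, true_and, Set.mem_setOf_eq]
      exact ⟨fun ⟨m, hm, e⟩ => ⟨⟨m, hm⟩, e⟩, fun ⟨m, e⟩ => ⟨m.1, m.2, e⟩⟩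
    · exact
        { toFun := fun f => ⟨⟨f.1, f.2.1⟩, f.2.2⟩
          invFun := fun f => ⟨f.1.1, f.1.2, f.2⟩
          left_inv := fun _ => rfl
          right_inv := fun _ => rfl }
  have hdvd : O.card ∣ 40 := by
    obtain ⟨k, hk⟩ := hQc ▸ Subgroup.card_dvd_of_le (le_inf hQM hQP)
    rw [hk] at hstab
    exact ⟨k, by nlinarith⟩
  -- it is a union of orbits of the Sylow subgroup
  have hfull : ∀ m : Fin 4, ∀ i j : Fin 112, (uMask m).testBit i.val = true →
      (uMask m).testBit j.val = true → i ∈ O → j ∈ O := by
    intro m i j hi hj hiO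
    set r : Fin 112 := Fin.ofNat 112 ((List.range 112).findIdx fun k => (uMask m).testBit k)
    have hr : (uMask m).testBit r.val = true := uRep_mem m
    obtain ⟨u, hu, e⟩ := mem_uOrbit 6 r i (uOrbit_cover m r i hr hi rfl)
    obtain ⟨v, hv, e'⟩ := mem_uOrbit 6 r j (uOrbit_cover m r j hr hj rfl)
    have hrO : r ∈ O := by
      have := hOinv u⁻¹ (inv_mem (hQM (hUQ hu))) i hiO
      rwa [← e, inv_smul_smul] at this
    exact e' ▸ hOinv v (hQM (hUQ hv)) r hrO
  let inO : Fin 4 → Bool := fun m => decide (∃ i ∈ O, (uMask m).testBit i.val = true)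
  have hOeq : O = Finset.univ.filter fun i =>
      ((List.finRange 4).any fun m => inO m && (uMask m).testBit i.val) = true := by
    ext i
    simp only [Finset.mem_filter, Finset.mem_univ, true_and, List.any_eq_true, List.mem_finRange,
      Bool.and_eq_true, inO, decide_eq_true_eq]
    constructor
    · intro hi
      obtain ⟨m, hm⟩ : ∃ m, (uMask m).testBit i.val = true := by
        obtain ⟨m, hm⟩ := List.exists_mem_of_length_pos (l := (List.finRange 4).filter
          fun m => (uMask m).testBit i.val) (by rw [four_checks.1 i]; norm_num)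
        exact ⟨m, (List.mem_filter.1 hm).2⟩
      exact ⟨m, ⟨i, hi, hm⟩, hm⟩
    · rintro ⟨m, ⟨j, hj, hjm⟩, him⟩
      exact hfull m j i hjm him hj
  have sizes : ∀ p q r s : Bool,
      let c := fun m : Fin 4 => [p, q, r, s].getD m.val false
      ((List.finRange 112).filter fun i =>
        (List.finRange 4).any fun m => c m && (uMask m).testBit i.val).length =
      p.toNat + 3 * q.toNat + 27 * r.toNat + 81 * s.toNat := by decide +kernel
  have hcard : O.card = (inO 0).toNat + 3 * (inO 1).toNat + 27 * (inO 2).toNat + 81 * (inO 3).toNat := by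
    rw [← sizes, hOeq, ← List.toFinset_card_of_nodup ((List.nodup_finRange 112).filter _)]
    refine congrArg Finset.card (Finset.ext fun i => ?_)
    have : ∀ m : Fin 4, [inO 0, inO 1, inO 2, inO 3].getD m.val false = inO m := by
      intro m; fin_cases m <;> rfl
    simp only [Finset.mem_filter, Finset.mem_univ, true_and, List.mem_toFinset, List.mem_filter,
      List.mem_finRange, this]
  have h0 : inO 0 = true := by simpa [inO] using ⟨0, hO0, four_checks.2.2.1⟩
  rw [h0, Bool.toNat_true] at hcard
  rcases hq : inO 2 <;> rcases hs : inO 3 <;> rw [hq, hs] at hcard <;>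
    rcases hp : inO 1 <;> rw [hp] at hcard <;> simp at hcard <;> rw [hcard] at hdvd <;>
    try norm_num at hdvd
  · -- M' fixes the first line
    have hP : M' ≤ P := by
      intro m hm
      exact Finset.card_le_one.1 hcard.le _ (hOinv m hm _ hO0) _ hO0
    have e : M' = P := Subgroup.eq_of_le_of_card_ge hP (by rw [hM', card_lineStab])
    refine ⟨x⁻¹ • 0, ?_⟩
    rw [MulAction.stabilizer_smul_eq_stabilizer_map_conj]
    show M = MulAut.conj x⁻¹ • P
    rw [← e, map_inv, inv_smul_smul]
  · -- a set of four lines would have too many images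
    exfalso
    have hO4 : ∀ i, i ∈ O ↔ fourImg [] i = true := by
      intro i
      rw [hOeq]
      simp only [Finset.mem_filter, Finset.mem_univ, true_and, fourImg, Bool.or_eq_true,
        List.any_eq_true, List.mem_finRange, Bool.and_eq_true]
      constructor
      · rintro ⟨m, hm, h⟩
        fin_cases m
        · exact Or.inl h
        · exact Or.inr h
        · simp [hq] at hm
        · simp [hs] at hm
      · rintro (h | h)
        · exact ⟨0, h0, h⟩
        · exact ⟨1, hp, h⟩
    have hle : Nat.card M' ≤ Nat.card (stabilizer LL (O : Set (Fin 112))) :=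
      Subgroup.card_le_of_le (by
        intro m hm
        rw [mem_stabilizer_iff]
        ext i
        rw [Set.mem_smul_set_iff_inv_smul_mem]
        constructor
        · intro h; simpa using hOinv m hm _ h
        · intro h; exact hOinv _ (inv_mem hm) _ h)
    have horb : 113 ≤ (orbit LL (O : Set (Fin 112))).ncard := by
      let g : Fin 113 → Set (Fin 112) := fun t => elL (Data.moved.getD t.val []) • (O : Set (Fin 112))
      have hg : Function.Injective g := by
        intro s t h
        refine Fin.ext ((four_checks.2.2.2.2.2.getElem_inj_iff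
          (hi := by simp [four_checks.2.2.2.2.1, s.isLt])
          (hj := by simp [four_checks.2.2.2.2.1, t.isLt])).1 ?_)
        simp only [List.getElem_map]
        have key : ∀ w : List Nat, (((List.finRange 112).filter fun i => fourImg w i).map
            fun i => 2 ^ (runW w i).val).sum =
            ∑ j ∈ (elL w • (O : Set (Fin 112))).toFinite.toFinset, 2 ^ j.val := by
          intro w
          rw [show (elL w • (O : Set (Fin 112))).toFinite.toFinset = O.image (elL w • ·) by
            ext j; simp [Finset.mem_smul_finset, Set.mem_smul_set],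
            Finset.sum_image fun a _ b _ h => MulAction.injective _ h]
          rw [← List.sum_toFinset _ ((List.nodup_finRange 112).filter _)]
          refine Finset.sum_congr (Finset.ext fun i => ?_) fun i _ => congrArg (fun x : Fin 112 => 2 ^ x.val) (elL_smul w i).symm
          simp [hO4, fourImg]
        rw [← List.getD_eq_getElem Data.moved [] (by simp [four_checks.2.2.2.2.1, s.isLt]),
          ← List.getD_eq_getElem Data.moved [] (by simp [four_checks.2.2.2.2.1, t.isLt]), key, key]
        exact Finset.sum_congr (by rw [show elL (Data.moved.getD s.val []) • (O : Set (Fin 112)) =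
          elL (Data.moved.getD t.val []) • (O : Set (Fin 112)) from h]) fun _ _ => rfl
      calc 113 = (Set.range g).ncard := by
            rw [← Nat.card_coe_set_eq, Nat.card_range_of_injective hg, Nat.card_fin]
        _ ≤ _ := Set.ncard_le_ncard (by rintro _ ⟨t, rfl⟩; exact mem_orbit _ _) (Set.toFinite _)
    have e := Nat.card_congr (orbitProdStabilizerEquivGroup LL (O : Set (Fin 112)))
    rw [Nat.card_prod, Nat.card_coe_set_eq, card_LL] at e
    rw [hM'] at hle
    nlinarith

/-! ### Sets meeting each clique twice -/

/-- A line mask. -/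
def cliqueMask (l : List Nat) : Nat := (l.map (2 ^ ·)).sum

/-- No clique has three points inside or three outside. -/
def partialOk (inc exc : Nat) : Bool :=
  Data.lines.all fun l => decide ((l.filter fun i => inc.testBit i).length ≤ 2) &&
    decide ((l.filter fun i => exc.testBit i).length ≤ 2)

/-- Exhaustive search over unions of cycles. -/
def search : List Nat → Nat → Nat → Bool
  | [], inc, exc => if partialOk inc exc then Data.sols.contains inc else true
  | m :: ms, inc, exc =>
    if partialOk inc exc then search ms (inc ||| m) exc && search ms inc (exc ||| m) else true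

theorem search_checks : search Data.cycles 0 0 = true ∧
    (∀ i : Fin 112, Data.cycles.any (fun m => m.testBit i.val) = true) ∧
    Data.cycles.all (fun m => decide (m < 2 ^ 112)) = true ∧
    (∀ l ∈ Data.lines, l.length = 4 ∧ l.all (· < 112) = true ∧ l.Nodup) ∧
    (∀ l ∈ Data.lines, ∀ i ∈ l, ∀ j ∈ l, i ≠ j →
      adjB (Fin.ofNat 112 i) (Fin.ofNat 112 j) = true ∧
      ((List.finRange 112).filter fun k =>
        adjB (Fin.ofNat 112 i) k && adjB (Fin.ofNat 112 j) k).length = 2) ∧
    (∀ m ∈ Data.cycles, ∀ j : Fin 112, m.testBit j.val = true → ∃ k : Fin 7,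
      runW ((List.replicate k.val Data.seven).flatten)
        (Fin.ofNat 112 ((List.range 112).findIdx fun r => m.testBit r)) = j) ∧
    (∀ i : Fin 112, runW ((List.replicate 7 Data.seven).flatten) i = i) ∧
    runW Data.seven 0 ≠ 0 := by
  decide +kernel

/-- An element of order seven. -/
noncomputable def sevenEl : LL := elL Data.seven

theorem orderOf_sevenEl : orderOf sevenEl = 7 := by
  haveI : Fact (Nat.Prime 7) := ⟨by norm_num⟩
  obtain ⟨-, -, -, -, -, -, h7, h0⟩ := search_checks
  refine orderOf_eq_prime (Subtype.ext ?_) fun h => h0 ?_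
  · show wordP Data.seven ^ 7 = 1
    rw [← wordP_replicate]
    exact Equiv.ext fun i => (wordP_apply _ i).trans (h7 i)
  · rw [← elL_smul, ← sevenEl, h, one_smul]

/-- A set meeting each clique twice and invariant under the element of order seven is one of the
listed ones. -/
theorem hemi_classify (p : Fin 112 → Bool) (hline : ∀ l ∈ Data.lines,
      (l.filter fun i => p (Fin.ofNat 112 i)).length = 2)
    (hinv : ∀ i, p (sevenEl • i) = p i) :
    ∃ k < Data.sols.length, ∀ i, p i = (Data.sols.getD k 0).testBit i.val := by
  obtain ⟨hsearch, hcov, hlt, hl4, -, hcyc, -, -⟩ := search_checks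
  have hinvk : ∀ k i, p (runW (List.replicate k Data.seven).flatten i) = p i := by
    intro k
    induction k with
    | zero => exact fun i => rfl
    | succ k ih =>
      intro i
      rw [List.replicate_succ, List.flatten_cons, runW_append, ih, ← elL_smul]
      exact hinv i
  have hconst : ∀ m ∈ Data.cycles, ∀ i j : Fin 112, m.testBit i.val = true →
      m.testBit j.val = true → p i = p j := by
    intro m hm i j hi hj
    obtain ⟨k, hk⟩ := hcyc m hm i hi
    obtain ⟨k', hk'⟩ := hcyc m hm j hj
    rw [← hk, ← hk', hinvk, hinvk]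
  have main : ∀ (ms : List Nat) (inc exc : Nat), (∀ m ∈ ms, m ∈ Data.cycles) →
      (∀ i : Fin 112, inc.testBit i.val = true → p i = true) →
      (∀ i : Fin 112, exc.testBit i.val = true → p i = false) →
      (∀ i : Fin 112, inc.testBit i.val = true ∨ exc.testBit i.val = true ∨
        ms.any (fun m => m.testBit i.val) = true) →
      search ms inc exc = true → ∃ v ∈ Data.sols, ∀ i : Fin 112, p i = v.testBit i.val := by
    have hok : ∀ inc exc : Nat, (∀ i : Fin 112, inc.testBit i.val = true → p i = true) →
        (∀ i : Fin 112, exc.testBit i.val = true → p i = false) → partialOk inc exc = true := by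
      intro inc exc hi he
      rw [partialOk, List.all_eq_true]
      intro l hl
      obtain ⟨h4, hl1, -⟩ := hl4 l hl
      have hb : ∀ i ∈ l, (Fin.ofNat 112 i).val = i := fun i hi' =>
        Nat.mod_eq_of_lt (by simpa using List.all_eq_true.1 hl1 i hi')
      have h2 := hline l hl
      have h2' : (l.filter fun i => !p (Fin.ofNat 112 i)).length = 2 := by
        have := List.length_eq_length_filter_add (l := l) (fun i => p (Fin.ofNat 112 i))
        omega
      simp only [Bool.and_eq_true, decide_eq_true_eq, ← List.countP_eq_length_filter] at h2 h2' ⊢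
      constructor
      · refine le_trans (List.countP_mono_left fun i hi' h => ?_) h2.le
        exact hi (Fin.ofNat 112 i) (by rw [hb i hi']; exact h)
      · refine le_trans (List.countP_mono_left fun i hi' h => ?_) h2'.le
        rw [Bool.not_eq_true']
        exact he (Fin.ofNat 112 i) (by rw [hb i hi']; exact h)
    intro ms
    induction ms with
    | nil =>
      intro inc exc _ hi he hc hs
      rw [search, if_pos (hok inc exc hi he), List.contains_iff_mem] at hs
      refine ⟨inc, hs, fun i => ?_⟩
      rcases hc i with h | h | h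
      · rw [h, hi i h]
      · rw [he i h]
        exact (Bool.eq_false_iff.2 fun hh => Bool.noConfusion ((hi i hh).symm.trans (he i h))).symm
      · simp at h
    | cons m ms ih =>
      intro inc exc hsub hi he hc hs
      rw [search, if_pos (hok inc exc hi he), Bool.and_eq_true] at hs
      have hm := hsub m List.mem_cons_self
      by_cases hp : ∃ i : Fin 112, m.testBit i.val = true ∧ p i = true
      · obtain ⟨r, hr, hpr⟩ := hp
        refine ih (inc ||| m) exc (fun x hx => hsub x (List.mem_cons_of_mem _ hx)) (fun i h => ?_) he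
          (fun i => ?_) hs.1
        · rw [Nat.testBit_or, Bool.or_eq_true] at h
          exact h.elim (hi i) fun h => (hconst m hm i r h hr).trans hpr
        · rcases hc i with h | h | h
          · left; simp [h]
          · exact Or.inr (Or.inl h)
          · rw [List.any_cons, Bool.or_eq_true] at h
            rcases h with h | h
            · left; simp [h]
            · exact Or.inr (Or.inr h)
      · refine ih inc (exc ||| m) (fun x hx => hsub x (List.mem_cons_of_mem _ hx)) hi (fun i h => ?_)
          (fun i => ?_) hs.2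
        · rw [Nat.testBit_or, Bool.or_eq_true] at h
          exact h.elim (he i) fun h => Bool.eq_false_iff.2 fun hh => hp ⟨i, h, hh⟩
        · rcases hc i with h | h | h
          · exact Or.inl h
          · right; left; simp [h]
          · rw [List.any_cons, Bool.or_eq_true] at h
            rcases h with h | h
            · right; left; simp [h]
            · exact Or.inr (Or.inr h)
  obtain ⟨v, hv, hpv⟩ := main Data.cycles 0 0 (fun m hm => hm) (by simp) (by simp)
    (fun i => Or.inr (Or.inr (hcov i))) hsearch
  obtain ⟨k, hk, rfl⟩ := List.getElem_of_mem hv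
  exact ⟨k, hk, fun i => by rw [hpv i, List.getD_eq_getElem _ _ hk]⟩

end Cfsg.Agent.Lib.McL275
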