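import Cfsg.Agent.Lib.McL275.Frame

/-!
A group as in `Setup` is conjugate to a determined subgroup of the automorphism group of the graph
on 275 vertices, so two such groups are isomorphic.
-/

set_option autoImplicit false
set_option maxRecDepth 20000

namespace Cfsg.Agent.Lib.McL275

open Cfsg Finset MulAction
open Cfsg.Agent.Lib.Leech.U43

/-- The chosen automorphism for a listed hemisystem. -/
def twFun (k : Fin 4) (i : Fin 112) : Fin 112 :=
  Fin.ofNat 112 ((Data.twist.getD (Data.solClass.getD k.val (0, 0)).1 []).getD i.val 0)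

/-- The index of a listed hemisystem. -/
def twIdx (k : Fin 4) : Fin 162 := Fin.ofNat 162 (Data.solClass.getD k.val (0, 0)).2

/-- A conjugated generator as a word. -/
def twWord (k : Fin 4) (b : Fin 5) : List Nat :=
  (Data.twistWords.getD (Data.solClass.getD k.val (0, 0)).1 []).getD b.val []

theorem twist_checks : Data.sols.length = 4 ∧
    ∀ k : Fin 4, ((List.finRange 112).map fun i => (twFun k i).val).Nodup ∧
      (∀ i, (Data.sols.getD k.val 0).testBit (twFun k i).val = mem (twIdx k) i) ∧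
      ∀ b i, runW (twWord k b) (twFun k i) = twFun k (permG b i) := by
  decide +kernel

theorem twFun_injective (k : Fin 4) : Function.Injective (twFun k) := fun i j h =>
  List.inj_on_of_nodup_map (twist_checks.2 k).1 (List.mem_finRange _) (List.mem_finRange _)
    (congrArg Fin.val h)

/-- The chosen automorphism as a permutation. -/
noncomputable def twP (k : Fin 4) : P112 :=
  Equiv.ofBijective (twFun k) (Finite.injective_iff_bijective.1 (twFun_injective k))

theorem twP_conj (k : Fin 4) : ∀ l ∈ LL, twP k * l * (twP k)⁻¹ ∈ LL := by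
  intro l hl
  induction hl using Subgroup.closure_induction with
  | mem x hx =>
    obtain ⟨b, rfl⟩ := hx
    have e : twP k * genP b = wordP (twWord k b) * twP k := Equiv.ext fun i => by
      rw [Equiv.Perm.mul_apply, Equiv.Perm.mul_apply, wordP_apply]
      exact ((twist_checks.2 k).2.2 b i).symm
    rw [e, mul_inv_cancel_right]
    exact wordP_mem _
  | one => simp
  | mul x y _ _ ihx ihy =>
    have h := mul_mem ihx ihy
    rwa [show twP k * x * (twP k)⁻¹ * (twP k * y * (twP k)⁻¹) = twP k * (x * y) * (twP k)⁻¹ by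
      group] at h
  | inv x _ ih =>
    have h := inv_mem ih
    rwa [show (twP k * x * (twP k)⁻¹)⁻¹ = twP k * x⁻¹ * (twP k)⁻¹ by group] at h

variable {G V : Type*} [Group G] [MulAction G V] [Fintype V] {S : Setup G V}

theorem LineMap.X_unfold (L : LineMap S) (z : V) (i : Fin 112) :
    L.X z i = true ↔ S.Adj (L.f i) z := L.X_iff

theorem LineMap.exists_twist (L : LineMap S) (τ : P112) (hτ : ∀ l ∈ LL, τ * l * τ⁻¹ ∈ LL) :
    ∃ L' : LineMap S, ∀ i, L'.f i = L.f (τ i) := by
  let c : LL →* LL := ((MulAut.conj τ).toMonoidHom.comp LL.subtype).codRestrict LL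
    fun l => hτ l.1 l.2
  have hc : Function.Injective c := fun x y h =>
    Subtype.ext (MulEquiv.injective (MulAut.conj τ) (congrArg Subtype.val h))
  let C := MulEquiv.ofBijective c (Finite.injective_iff_bijective.1 hc)
  refine ⟨⟨fun i => L.f (τ i), L.e.trans C.symm, L.inj.comp τ.injective, ?_, fun l i => ?_⟩,
    fun i => rfl⟩
  · rw [← L.range]
    exact τ.surjective.range_comp L.f
  · show L.f (τ (l • i)) = L.e.symm (C l) • L.f (τ i)
    rw [← L.equiv]
    refine congrArg L.f ?_
    show τ (l.1 i) = (τ * l.1 * τ⁻¹) (τ i)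
    simp

/-- Coordinates for all 275 points. -/
structure Coord (S : Setup G V) extends LineMap S where
  /-- The points of the large suborbit. -/
  g : Fin 162 → V
  gout : ∀ d, g d ∈ S.outer
  gX : ∀ d i, toLineMap.X (g d) i = mem d i

theorem exists_coord (S : Setup G V) : Nonempty (Coord S) := by
  obtain ⟨L⟩ := exists_lineMap S
  obtain ⟨z, hz, k, hk, hX⟩ := L.exists_hemi
  rw [twist_checks.1] at hk
  obtain ⟨L', hf⟩ := L.exists_twist (twP ⟨k, hk⟩) (twP_conj _)
  have hd : ∀ i, L'.X z i = mem (twIdx ⟨k, hk⟩) i := by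
    intro i
    rw [← (twist_checks.2 ⟨k, hk⟩).2.1 i, ← hX, Bool.eq_iff_iff, L'.X_iff, L.X_iff, hf]
    rfl
  set d₀ := twIdx ⟨k, hk⟩
  let W : Fin 162 → List Nat := fun c => Data.famWords.getD c.val []
  let c0 : V := L'.e.symm (elL (W d₀))⁻¹ • z
  have hc0 : ∀ i, L'.X c0 i = mem 0 i := by
    intro i
    have h := L'.X_smul (elL (W d₀))⁻¹ z (elL (W d₀) • i)
    rw [inv_smul_smul] at h
    rw [show L'.X c0 i = _ from h, hd, elL_smul]
    have e := ext_word (W d₀) 0 i
    rwa [fam_words.1 d₀] at e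
  refine ⟨⟨L', fun d => L'.e.symm (elL (W d)) • c0,
    fun d => S.smul_outer _ (S.smul_outer _ hz), fun d i => ?_⟩⟩
  obtain ⟨j, rfl⟩ := exists_smul_eq LL (0 : Fin 112) i
  have h := L'.X_smul (elL (W d)) c0 ((elL (W d))⁻¹ • (j • (0 : Fin 112)))
  rw [smul_inv_smul] at h
  rw [h, hc0]
  have e := ext_word (W d) 0 ((elL (W d))⁻¹ • (j • (0 : Fin 112)))
  rwa [fam_words.1 d, ← elL_smul, smul_inv_smul, eq_comm] at e

namespace Coord

variable (C : Coord S)

theorem ginj : Function.Injective C.g := fun c d h =>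
  mem_ext fun i => by rw [← C.gX, ← C.gX, h]

theorem gsurj {z : V} (hz : z ∈ S.outer) : ∃ d, C.g d = z := by
  classical
  have h : (univ.image C.g) = S.outer := by
    refine Finset.eq_of_subset_of_card_le (fun w hw => ?_) ?_
    · obtain ⟨d, -, rfl⟩ := mem_image.1 hw
      exact C.gout d
    · rw [S.card_outer, card_image_of_injective _ C.ginj, card_univ, Fintype.card_fin]
  obtain ⟨d, -, hd⟩ := mem_image.1 (h ▸ hz)
  exact ⟨d, hd⟩

theorem gequiv {l : LL} {π : Equiv.Perm (Fin 162)} (h : Ext l.1 π) (d : Fin 162) :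
    C.g (π d) = C.e.symm l • C.g d := by
  obtain ⟨d', hd'⟩ := C.gsurj (S.smul_outer (C.e.symm l) (C.gout d))
  rw [← hd']
  congr 1
  refine (mem_ext fun i => ?_).symm
  obtain ⟨j, rfl⟩ := l.1.surjective i
  rw [h.1, ← C.gX d', hd']
  exact (C.toLineMap.X_smul l _ j).trans (C.gX d j)

/-- Adjacency in the large suborbit. -/
noncomputable def U (c d : Fin 162) : Bool := by classical exact decide (S.Adj (C.g c) (C.g d))

theorem U_iff {c d : Fin 162} : C.U c d = true ↔ S.Adj (C.g c) (C.g d) := by simp [U]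

theorem U_inv {l : LL} {π : Equiv.Perm (Fin 162)} (h : Ext l.1 π) (c d : Fin 162) :
    C.U (π c) (π d) = C.U c d := by
  rw [Bool.eq_iff_iff, C.U_iff, C.U_iff, C.gequiv h, C.gequiv h]
  exact S.adj_smul (C.e.symm l).1

theorem row_count : (univ.filter fun d => C.U 0 d = true).card = 56 := by
  classical
  have h := C.toLineMap.outer_split (fun z => S.Adj (C.g 0) z) fun z hz e =>
    (S.outer_not_adj (C.gout 0)).1 (S.adj_symm (e ▸ hz))
  have e1 : (univ.filter fun i => S.Adj (C.g 0) (C.f i)).card = 56 := by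
    rw [← fam_checks.2.2.2.2.2.2.2.2.2,
      ← List.toFinset_card_of_nodup ((List.nodup_finRange 112).filter _)]
    refine congrArg Finset.card (Finset.ext fun i => ?_)
    simp only [mem_filter, mem_univ, true_and, List.mem_toFinset, List.mem_filter, List.mem_finRange]
    rw [← C.gX, C.toLineMap.X_iff]
    exact ⟨S.adj_symm, S.adj_symm⟩
  have e2 : S.outer.filter (fun z => S.Adj (C.g 0) z) =
      (univ.filter fun d => C.U 0 d = true).image C.g := by
    ext z
    simp only [mem_filter, mem_image, mem_univ, true_and, C.U_iff]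
    constructor
    · rintro ⟨hz, ha⟩
      obtain ⟨d, rfl⟩ := C.gsurj hz
      exact ⟨d, ha, rfl⟩
    · rintro ⟨d, ha, rfl⟩
      exact ⟨C.gout d, ha⟩
  rw [S.adj_out, e1, e2, card_image_of_injective _ C.ginj] at h
  omega

theorem fam_split :
    (∀ p q : Bool, ((List.finRange 162).filter
      fun d => d != 0 && if fadj 0 d then p else q).length = 56 * p.toNat + 105 * q.toNat) ∧
    fadj 0 (Fin.ofNat 162 Data.start56) = true ∧ fadj 0 (Fin.ofNat 162 Data.start105) = false ∧
    (Fin.ofNat 162 Data.start56) ≠ (0 : Fin 162) ∧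
    (Fin.ofNat 162 Data.start105) ≠ (0 : Fin 162) := by
  decide +kernel

theorem U_zero (d : Fin 162) : C.U 0 d = fadj 0 d := by
  classical
  obtain ⟨hcnt, a56, a105, n56, n105⟩ := fam_split
  have hself : C.U 0 0 = false := by
    rw [Bool.eq_false_iff, Ne, C.U_iff]
    exact fun h => S.adj_ne h rfl
  set p := C.U 0 (Fin.ofNat 162 Data.start56) with hp
  set q := C.U 0 (Fin.ofNat 162 Data.start105) with hq
  have hpq : ∀ d, d ≠ 0 → C.U 0 d = if fadj 0 d then p else q := by
    intro d hd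
    cases hv : fadj 0 d
    · obtain ⟨l, hl, π, hπ, h0, he⟩ := fam_suborbit hd n105 (hv.trans a105.symm)
      rw [← C.U_inv (l := ⟨l, hl⟩) hπ, h0, he, ← hq]; simp
    · obtain ⟨l, hl, π, hπ, h0, he⟩ := fam_suborbit hd n56 (hv.trans a56.symm)
      rw [← C.U_inv (l := ⟨l, hl⟩) hπ, h0, he, ← hp]; simp
  have hlen : 56 * p.toNat + 105 * q.toNat = 56 := by
    rw [← hcnt p q, ← C.row_count,
      ← List.toFinset_card_of_nodup ((List.nodup_finRange 162).filter _)]
    refine congrArg Finset.card (Finset.ext fun d => ?_)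
    simp only [mem_filter, mem_univ, true_and, List.mem_toFinset, List.mem_filter, List.mem_finRange,
      Bool.and_eq_true, bne_iff_ne]
    by_cases h : d = 0
    · subst h; simp [hself]
    · rw [hpq d h]; exact ⟨fun hh => hh.2, fun hh => ⟨h, hh⟩⟩
  by_cases h : d = 0
  · subst h; rw [hself, fam_checks.2.2.2.2.1]
  · rw [hpq d h]
    revert hlen
    cases p <;> cases q <;> cases fadj 0 d <;> simp

theorem adj_gg (c d : Fin 162) : S.Adj (C.g c) (C.g d) ↔ fadj c d = true := by
  obtain ⟨π, hπ⟩ := exists_ext (wordP_mem (Data.famWords.getD c.val []))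
  have hc : π 0 = c := (ext_eq_runF hπ 0).trans (fam_words.1 c)
  obtain ⟨d, rfl⟩ := π.surjective d
  subst hc
  rw [← C.U_iff, C.U_inv (l := ⟨_, wordP_mem _⟩) hπ, C.U_zero, hπ.2]

/-- All points. -/
def pt : V275 → V
  | none => S.a
  | some (.inl i) => C.f i
  | some (.inr d) => C.g d

theorem adj_fg (i : Fin 112) (d : Fin 162) : S.Adj (C.f i) (C.g d) ↔ mem d i = true := by
  rw [← C.gX, C.toLineMap.X_iff]

theorem pt_injective : Function.Injective C.pt := by
  have h1 : ∀ i, C.f i ≠ S.a := fun i => (S.adj_ne (C.toLineMap.adj_a i)).symm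
  have h2 : ∀ d, C.g d ≠ S.a := fun d => (S.outer_not_adj (C.gout d)).2
  have h3 : ∀ i d, C.f i ≠ C.g d := fun i d e =>
    (S.outer_not_adj (C.gout d)).1 (e ▸ C.toLineMap.adj_a i)
  rintro (_ | i | c) (_ | j | d) h
  · rfl
  · exact absurd h.symm (h1 j)
  · exact absurd h.symm (h2 d)
  · exact absurd h (h1 i)
  · rw [C.inj h]
  · exact absurd h (h3 i d)
  · exact absurd h (h2 c)
  · exact absurd h.symm (h3 j c)
  · rw [C.ginj h]

/-- All points, as an equivalence. -/
noncomputable def ptE : V275 ≃ V :=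
  Equiv.ofBijective C.pt ((Fintype.bijective_iff_injective_and_card _).2
    ⟨C.pt_injective, by rw [S.card]; simp⟩)

theorem adj_pt : ∀ x y : V275, S.Adj (C.pt x) (C.pt y) ↔ adjV x y = true
  | none, none => iff_of_false (fun h => S.adj_ne h rfl) (by simp [adjV])
  | none, some (.inl i) => iff_of_true (C.toLineMap.adj_a i) rfl
  | none, some (.inr d) => iff_of_false (S.outer_not_adj (C.gout d)).1 (by simp [adjV])
  | some (.inl i), none => iff_of_true (S.adj_symm (C.toLineMap.adj_a i)) rfl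
  | some (.inr d), none =>
    iff_of_false (fun h => (S.outer_not_adj (C.gout d)).1 (S.adj_symm h)) (by simp [adjV])
  | some (.inl i), some (.inl j) => C.toLineMap.adj_iff i j
  | some (.inl i), some (.inr d) => C.adj_fg i d
  | some (.inr d), some (.inl i) =>
    ⟨fun h => (C.adj_fg i d).1 (S.adj_symm h), fun h => S.adj_symm ((C.adj_fg i d).2 h)⟩
  | some (.inr c), some (.inr d) => C.adj_gg c d

/-- The action on the vertices. -/
noncomputable def emb : G →* Equiv.Perm V275 where
  toFun g := C.ptE.trans ((MulAction.toPerm g).trans C.ptE.symm)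
  map_one' := Equiv.ext fun x => by simp
  map_mul' g h := Equiv.ext fun x => by simp [mul_smul]

theorem pt_emb (g : G) (x : V275) : C.pt (C.emb g x) = g • C.pt x :=
  C.ptE.apply_symm_apply _

end Coord

/-- Automorphisms of the graph. -/
def aut275 : Subgroup (Equiv.Perm V275) where
  carrier := {f | ∀ x y, adjV (f x) (f y) = adjV x y}
  one_mem' := fun _ _ => rfl
  mul_mem' := fun {f g} hf hg x y => (hf (g x) (g y)).trans (hg x y)
  inv_mem' := fun {f} hf x y => by simpa using (hf (f⁻¹ x) (f⁻¹ y)).symm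

theorem fix_inl {σ : Equiv.Perm V275} (hσ : σ ∈ aut275) (h0 : σ none = none) (i : Fin 112) :
    ∃ j, σ (some (.inl i)) = some (.inl j) := by
  have h := hσ none (some (.inl i))
  rw [h0] at h
  rcases hv : σ (some (.inl i)) with _ | j | d
  · rw [hv] at h; simp [adjV] at h
  · exact ⟨j, rfl⟩
  · rw [hv] at h; simp [adjV] at h

theorem fix_inr {σ : Equiv.Perm V275} (hσ : σ ∈ aut275) (h0 : σ none = none) (c : Fin 162) :
    ∃ d, σ (some (.inr c)) = some (.inr d) := by
  have h := hσ none (some (.inr c))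
  rw [h0] at h
  rcases hv : σ (some (.inr c)) with _ | j | d
  · exact absurd (σ.injective (hv.trans h0.symm)) (by simp)
  · rw [hv] at h; simp [adjV] at h
  · exact ⟨d, rfl⟩

theorem fix_det {σ τ : Equiv.Perm V275} (hσ : σ ∈ aut275) (hτ : τ ∈ aut275) (s0 : σ none = none)
    (t0 : τ none = none) (h : ∀ i, σ (some (.inl i)) = τ (some (.inl i))) : σ = τ := by
  refine Equiv.ext fun x => ?_
  rcases x with _ | i | c
  · rw [s0, t0]
  · exact h i
  · obtain ⟨d, hd⟩ := fix_inr hσ s0 c
    obtain ⟨d', hd'⟩ := fix_inr hτ t0 c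
    rw [hd, hd']
    congr 2
    refine mem_ext fun j => ?_
    obtain ⟨⟨i, hi⟩, rfl⟩ : ∃ p : {i // ∃ j, σ (some (.inl i)) = some (.inl j)}, p.2.choose = j := by
      let m : Fin 112 → Fin 112 := fun i => (fix_inl hσ s0 i).choose
      have hm : Function.Injective m := fun a b e => by
        have ha := (fix_inl hσ s0 a).choose_spec
        have hb := (fix_inl hσ s0 b).choose_spec
        simpa using σ.injective (ha.trans ((congrArg (fun t => some (Sum.inl t)) e).trans hb.symm))
      obtain ⟨i, rfl⟩ := (Finite.injective_iff_surjective.1 hm) j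
      exact ⟨⟨i, fix_inl hσ s0 i⟩, rfl⟩
    have e1 := hσ (some (.inr c)) (some (.inl i))
    have e2 := hτ (some (.inr c)) (some (.inl i))
    rw [hd, hi.choose_spec] at e1
    rw [hd', ← h i, hi.choose_spec] at e2
    exact e1.trans e2.symm

theorem card_eq_orbit_mul (H : Subgroup (Equiv.Perm V275)) :
    Nat.card H = (orbit H (none : V275)).ncard *
      Nat.card ↥(H ⊓ stabilizer (Equiv.Perm V275) (none : V275)) := by
  rw [← Nat.card_congr (orbitProdStabilizerEquivGroup H (none : V275)), Nat.card_prod,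
    Nat.card_coe_set_eq]
  congr 1
  exact Nat.card_congr
    { toFun := fun f => ⟨f.1.1, f.1.2, f.2⟩
      invFun := fun f => ⟨⟨f.1, f.2.1⟩, f.2.2⟩
      left_inv := fun _ => rfl
      right_inv := fun _ => rfl }

theorem card_aut275_le : Nat.card aut275 ≤ 275 * (8 * 3265920) := by
  rw [card_eq_orbit_mul]
  refine Nat.mul_le_mul ((Set.ncard_le_card _).trans (by simp)) (le_trans ?_ card_lineAut_le)
  let m : ↥(aut275 ⊓ stabilizer (Equiv.Perm V275) (none : V275)) → Fin 112 → Fin 112 :=
    fun σ i => (fix_inl σ.2.1 σ.2.2 i).choose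
  have hm : ∀ (σ : ↥(aut275 ⊓ stabilizer (Equiv.Perm V275) (none : V275))) (i : Fin 112),
      σ.1 (some (.inl i)) = some (.inl (m σ i)) := fun σ i =>
    (fix_inl σ.2.1 σ.2.2 i).choose_spec
  have hmi : ∀ σ, Function.Injective (m σ) := fun σ a b e => by
    simpa using σ.1.injective ((hm σ a).trans ((congrArg (fun t => some (Sum.inl t)) e).trans
      (hm σ b).symm))
  refine Nat.card_le_card_of_injective (fun σ =>
    (⟨Equiv.ofBijective (m σ) (Finite.injective_iff_bijective.1 (hmi σ)), fun i j => ?_⟩ : lineAut)) ?_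
  · have e := σ.2.1 (some (.inl i)) (some (.inl j))
    rw [hm, hm] at e
    exact e
  · intro σ τ e
    refine Subtype.ext (fix_det σ.2.1 τ.2.1 σ.2.2 τ.2.2 fun i => ?_)
    rw [hm, hm]
    exact congrArg (fun t => some (Sum.inl t)) (Equiv.ext_iff.1 (congrArg Subtype.val e) i)

/-- What the image of a group as in `Setup` satisfies. -/
structure Good (P : Subgroup (Equiv.Perm V275)) : Prop where
  le : P ≤ aut275
  card : Nat.card P = 275 * 3265920
  lift : ∀ l ∈ LL, ∃ σ ∈ P, σ none = none ∧ ∀ i, σ (some (.inl i)) = some (.inl (l i))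
  stab : ∀ σ ∈ P, σ none = none → ∃ l ∈ LL, ∀ i, σ (some (.inl i)) = some (.inl (l i))

theorem Good.stab_mem {P Q : Subgroup (Equiv.Perm V275)} (hP : Good P) (hQ : Good Q)
    {σ : Equiv.Perm V275} (h : σ ∈ P) (h0 : σ none = none) : σ ∈ Q := by
  obtain ⟨l, hl, hli⟩ := hP.stab σ h h0
  obtain ⟨τ, hτ, t0, hti⟩ := hQ.lift l hl
  rwa [fix_det (hP.le h) (hQ.le hτ) h0 t0 fun i => (hli i).trans (hti i).symm]

theorem Good.card_stab {P : Subgroup (Equiv.Perm V275)} (hP : Good P) :
    Nat.card ↥(P ⊓ stabilizer (Equiv.Perm V275) (none : V275)) = 3265920 := by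
  rw [← card_LL]
  choose σ hσ s0 si using fun l : LL => hP.lift l.1 l.2
  symm
  refine Nat.card_eq_of_bijective (fun l => ⟨σ l, hσ l, s0 l⟩) ⟨fun l l' e => ?_, fun τ => ?_⟩
  · refine Subtype.ext (Equiv.ext fun i => ?_)
    have := (si l i).symm.trans ((Equiv.ext_iff.1 (congrArg Subtype.val e) _).trans (si l' i))
    simpa using this
  · obtain ⟨l, hl, hli⟩ := hP.stab τ.1 τ.2.1 τ.2.2
    exact ⟨⟨l, hl⟩, Subtype.ext (fix_det (hP.le (hσ _)) (hP.le τ.2.1) (s0 _) τ.2.2
      fun i => (si ⟨l, hl⟩ i).trans (hli i).symm)⟩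

theorem good_unique {P Q : Subgroup (Equiv.Perm V275)} (hP : Good P) (hQ : Good Q) : P = Q := by
  set r := Q.relIndex P
  set n := (orbit ↥(P ⊓ Q) (none : V275)).ncard
  have hst : (P ⊓ Q) ⊓ stabilizer (Equiv.Perm V275) (none : V275) =
      P ⊓ stabilizer (Equiv.Perm V275) (none : V275) :=
    le_antisymm (inf_le_inf_right _ inf_le_left)
      (fun σ h => ⟨⟨h.1, hP.stab_mem hQ h.1 h.2⟩, h.2⟩)
  have hI : n * 3265920 * r = 275 * 3265920 := by
    have e1 := card_eq_orbit_mul (P ⊓ Q)
    rw [hst, hP.card_stab] at e1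
    rw [← e1, ← hP.card]
    rw [show r = (Q.subgroupOf P).index from rfl, ← (Q.subgroupOf P).card_mul_index,
      ← Subgroup.inf_subgroupOf_left Q P,
      Nat.card_congr (Subgroup.subgroupOfEquivOfLe (inf_le_left : P ⊓ Q ≤ P)).toEquiv]
  have hr : r ≤ 8 := by
    have hA := card_aut275_le
    have h2 : Nat.card (Q.subgroupOf aut275) = 275 * 3265920 :=
      (Nat.card_congr (Subgroup.subgroupOfEquivOfLe hQ.le).toEquiv).trans hQ.card
    rw [← (Q.subgroupOf aut275).card_mul_index, h2] at hA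
    have h3 : Q.relIndex P ≤ Q.relIndex aut275 :=
      Subgroup.relIndex_le_of_le_right hP.le Subgroup.index_ne_zero_of_finite
    have : Q.relIndex aut275 ≤ 8 := by
      show (Q.subgroupOf aut275).index ≤ 8
      omega
    omega
  have hmove : ∀ l ∈ LL, ∃ σ ∈ P ⊓ Q, σ none = none ∧
      (∀ i, σ (some (.inl i)) = some (.inl (l i))) ∧
      ∀ π, Ext l π → ∀ c, σ (some (.inr c)) = some (.inr (π c)) := by
    intro l hl
    obtain ⟨σ, hσ, s0, si⟩ := hP.lift l hl
    refine ⟨σ, ⟨hσ, hP.stab_mem hQ hσ s0⟩, s0, si, fun π hπ c => ?_⟩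
    obtain ⟨d, hd⟩ := fix_inr (hP.le hσ) s0 c
    rw [hd]
    congr 2
    refine mem_ext fun i => ?_
    obtain ⟨j, rfl⟩ := l.surjective i
    have e := hP.le hσ (some (.inr c)) (some (.inl j))
    rw [hd, si j] at e
    rw [hπ.1]
    exact e
  have hn : n = 1 ∨ 113 ≤ n := by
    by_cases hx : ∃ x ∈ orbit ↥(P ⊓ Q) (none : V275), x ≠ none
    · right
      have hbig : ∀ {α : Type} (u : α → V275), Function.Injective u → (∀ a, u a ≠ none) →
          (∀ a, u a ∈ orbit ↥(P ⊓ Q) (none : V275)) → Nat.card α + 1 ≤ n := by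
        intro α u hu hne ho
        rw [← Set.ncard_range_of_injective hu, ← Set.ncard_insert_of_notMem (a := (none : V275))
          (show (none : V275) ∉ Set.range u from fun ⟨a, ha⟩ => hne a ha) (Set.toFinite _)]
        exact Set.ncard_le_ncard (Set.insert_subset (mem_orbit_self _) (by
          rintro _ ⟨a, rfl⟩; exact ho a)) (Set.toFinite _)
      have hclosed : ∀ σ ∈ P ⊓ Q, ∀ x ∈ orbit ↥(P ⊓ Q) (none : V275),
          σ x ∈ orbit ↥(P ⊓ Q) (none : V275) := fun σ hσ x hx =>
        orbit_eq_iff.2 hx ▸ mem_orbit x (⟨σ, hσ⟩ : ↥(P ⊓ Q))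
      obtain ⟨x, hx, hx0⟩ := hx
      rcases x with _ | i | c
      · exact absurd rfl hx0
      · refine le_trans (by simp) (hbig (fun j : Fin 112 => some (Sum.inl j))
          (fun a b h => by simpa using h) (fun a => by simp) fun j => ?_)
        obtain ⟨⟨l, hl⟩, hlj⟩ := exists_smul_eq LL i j
        obtain ⟨σ, hσ, -, si, -⟩ := hmove l hl
        have := hclosed σ hσ _ hx
        rwa [si, show l i = j from hlj] at this
      · refine le_trans (by simp) (hbig (fun j : Fin 162 => some (Sum.inr j))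
          (fun a b h => by simpa using h) (fun a => by simp) fun d => ?_)
        have key : ∀ e : Fin 162, ∃ σ ∈ P ⊓ Q, σ (some (.inr 0)) = some (.inr e) := by
          intro e
          obtain ⟨π, hπ⟩ := exists_ext (wordP_mem (Data.famWords.getD e.val []))
          obtain ⟨σ, hσ, -, -, hr'⟩ := hmove _ (wordP_mem (Data.famWords.getD e.val []))
          exact ⟨σ, hσ, by rw [hr' π hπ, ext_eq_runF hπ, fam_words.1]⟩
        obtain ⟨σ, hσ, e1⟩ := key c
        obtain ⟨τ, hτ, e2⟩ := key d
        have h1 := hclosed σ⁻¹ (inv_mem hσ) _ hx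
        rw [Equiv.Perm.inv_eq_iff_eq.2 e1.symm] at h1
        exact e2 ▸ hclosed τ hτ _ h1
    · left
      push Not at hx
      refine Set.ncard_eq_one.2 ⟨none, Set.eq_singleton_iff_unique_mem.2 ⟨mem_orbit_self _, hx⟩⟩
  have hr1 : r = 1 := by
    have e : n * r = 275 := by nlinarith
    rcases hn with h | h
    · rw [h] at e; omega
    · interval_cases r <;> omega
  exact Subgroup.eq_of_le_of_card_ge (Subgroup.relIndex_eq_one.1 hr1) (by rw [hP.card, hQ.card])

theorem exists_good [FaithfulSMul G V] (S : Setup G V) :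
    ∃ P, Good P ∧ Nonempty (G ≃* P) := by
  obtain ⟨C⟩ := exists_coord S
  haveI := S.trans
  have hinj : Function.Injective C.emb := fun g h e => eq_of_smul_eq_smul (α := V) fun v => by
    obtain ⟨x, rfl⟩ := C.ptE.surjective v
    show g • C.pt x = h • C.pt x
    rw [← C.pt_emb, ← C.pt_emb, e]
  let E := MonoidHom.ofInjective hinj
  have key : ∀ g : G, C.emb g none = none ↔ g ∈ stabilizer G S.a := by
    intro g
    rw [mem_stabilizer_iff, ← C.pt_injective.eq_iff, C.pt_emb]
    rfl
  have hline : ∀ (h : stabilizer G S.a) (i : Fin 112),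
      C.emb h.1 (some (.inl i)) = some (.inl ((C.e h).1 i)) := by
    intro h i
    apply C.pt_injective
    rw [C.pt_emb]
    show h.1 • C.f i = C.f (C.e h • i)
    rw [C.equiv, C.e.symm_apply_apply]
    rfl
  refine ⟨C.emb.range, ⟨?_, ?_, ?_, ?_⟩, ⟨E⟩⟩
  · rintro _ ⟨g, rfl⟩ x y
    rw [Bool.eq_iff_iff, ← C.adj_pt, ← C.adj_pt, C.pt_emb, C.pt_emb]
    exact S.adj_smul g
  · rw [← Nat.card_congr E.toEquiv, ← (stabilizer G S.a).card_mul_index,
      index_stabilizer_of_transitive, S.card_stab, Nat.card_eq_fintype_card, S.card]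
  · intro l hl
    refine ⟨C.emb (C.e.symm ⟨l, hl⟩).1, ⟨_, rfl⟩, (key _).2 (C.e.symm ⟨l, hl⟩).2, fun i => ?_⟩
    rw [hline, C.e.apply_symm_apply]
  · rintro _ ⟨g, rfl⟩ h0
    exact ⟨_, (C.e ⟨g, (key g).1 h0⟩).2, fun i => hline ⟨g, (key g).1 h0⟩ i⟩

/-- **Two groups as in `Setup` are isomorphic.** -/
theorem setup_iso {G' V' : Type*} [Group G'] [MulAction G' V'] [Fintype V'] [FaithfulSMul G V]
    [FaithfulSMul G' V'] (S : Setup G V) (S' : Setup G' V') : Nonempty (G ≃* G') := by
  obtain ⟨P, hP, ⟨e⟩⟩ := exists_good S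
  obtain ⟨Q, hQ, ⟨f⟩⟩ := exists_good S'
  exact ⟨(e.trans (MulEquiv.subgroupCongr (good_unique hP hQ))).trans f.symm⟩

end Cfsg.Agent.Lib.McL275
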